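import Mathlib

/-!
# Paths in a linked chain of linear maps
-/

set_option autoImplicit false

universe u v w

noncomputable section

namespace Groth.Misc6.LinkedGrass

variable {L : Type u} [CommRing L] {W : Type v} [AddCommGroup W] [Module L W] {n : ℕ}

/-- composites of forward maps starting at `m` -/
def fwd (F : Fin n → Module.End L W) (m : Fin (n + 1)) (i : Fin (n + 1)) : Module.End L W :=
  Fin.induction (motive := fun _ => Module.End L W) (if m = 0 then 1 else 0)
    (fun j prev => if m = j.succ then 1 else F j * prev) i

/-- composites of backward maps starting at `m` -/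
def bwd (G : Fin n → Module.End L W) (m : Fin (n + 1)) (i : Fin (n + 1)) : Module.End L W :=
  Fin.reverseInduction (motive := fun _ => Module.End L W) (if m = Fin.last n then 1 else 0)
    (fun j next => if m = j.castSucc then 1 else G j * next) i

/-- the composite from the `m`-th to the `i`-th member of the chain -/
def path (F G : Fin n → Module.End L W) (m i : Fin (n + 1)) : Module.End L W :=
  if m ≤ i then fwd F m i else bwd G m i

variable {F G : Fin n → Module.End L W}

theorem fwd_self (m : Fin (n + 1)) : fwd F m m = 1 := by
  refine Fin.cases ?_ (fun j => ?_) m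
  · simp [fwd]
  · simp [fwd, Fin.induction_succ]

theorem bwd_self (m : Fin (n + 1)) : bwd G m m = 1 := by
  refine Fin.lastCases ?_ (fun j => ?_) m
  · simp [bwd, Fin.reverseInduction_last]
  · simp [bwd, Fin.reverseInduction_castSucc]

@[simp] theorem path_self (m : Fin (n + 1)) : path F G m m = 1 := by
  simp [path, fwd_self]

theorem path_succ {m : Fin (n + 1)} {i : Fin n} (h : m ≤ i.castSucc) :
    path F G m i.succ = F i * path F G m i.castSucc := by
  have h' : m ≤ i.succ := h.trans (Fin.castSucc_lt_succ (i := i)).le
  rw [path, if_pos h', path, if_pos h]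
  conv_lhs => rw [fwd, Fin.induction_succ]
  rw [if_neg]
  · rfl
  · intro he
    exact absurd (he ▸ h) (not_le.2 Fin.castSucc_lt_succ)

theorem path_castSucc {m : Fin (n + 1)} {i : Fin n} (h : i.castSucc < m) :
    path F G m i.castSucc = G i * path F G m i.succ := by
  rw [path, if_neg (not_le.2 h)]
  conv_lhs => rw [bwd, Fin.reverseInduction_castSucc, if_neg h.ne']
  congr 1
  change bwd G m i.succ = _
  rw [path]
  by_cases h' : m ≤ i.succ
  · have hm : m = i.succ := le_antisymm h' (Fin.castSucc_lt_iff_succ_le.1 h)
    rw [if_pos h', hm, fwd_self, bwd_self]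
  · rw [if_neg h']

theorem path_succ_apply {m : Fin (n + 1)} {i : Fin n} (h : m ≤ i.castSucc) (x : W) :
    path F G m i.succ x = F i (path F G m i.castSucc x) := by
  rw [path_succ h]; rfl

theorem path_castSucc_apply {m : Fin (n + 1)} {i : Fin n} (h : i.castSucc < m) (x : W) :
    path F G m i.castSucc x = G i (path F G m i.succ x) := by
  rw [path_castSucc h]; rfl

theorem F_path_apply {s : L} (hFG : ∀ i, F i * G i = s • (1 : Module.End L W)) {m : Fin (n + 1)}
    (i : Fin n) (x : W) :
    F i (path F G m i.castSucc x) = (if m ≤ i.castSucc then (1 : L) else s) • path F G m i.succ x := by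
  split_ifs with h
  · rw [one_smul, path_succ_apply h]
  · rw [path_castSucc_apply (not_le.1 h), ← Module.End.mul_apply, hFG]
    simp

theorem G_path_apply {s : L} (hGF : ∀ i, G i * F i = s • (1 : Module.End L W)) {m : Fin (n + 1)}
    (i : Fin n) (x : W) :
    G i (path F G m i.succ x) = (if i.castSucc < m then (1 : L) else s) • path F G m i.castSucc x := by
  split_ifs with h
  · rw [one_smul, path_castSucc_apply h]
  · rw [path_succ_apply (not_lt.1 h), ← Module.End.mul_apply, hGF]
    simp

theorem forall_of_step (P : Fin (n + 1) → Prop) (m : Fin (n + 1)) (hm : P m)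
    (hup : ∀ i : Fin n, m ≤ i.castSucc → P i.castSucc → P i.succ)
    (hdown : ∀ i : Fin n, i.castSucc < m → P i.succ → P i.castSucc) : ∀ i, P i := by
  have h1 : ∀ i, m ≤ i → P i := by
    intro i
    induction i using Fin.induction with
    | zero => intro h; rwa [le_antisymm (Fin.zero_le _) h]
    | succ j ih =>
      intro h
      rcases h.eq_or_lt with h | h
      · exact h ▸ hm
      · exact hup j (Fin.le_castSucc_iff.2 h) (ih (Fin.le_castSucc_iff.2 h))
  have h2 : ∀ i, i ≤ m → P i := by
    intro i
    induction i using Fin.reverseInduction with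
    | last => intro h; rwa [le_antisymm h (Fin.le_last _)]
    | cast j ih =>
      intro h
      rcases h.eq_or_lt with h | h
      · exact h ▸ hm
      · exact hdown j h (ih (Fin.castSucc_lt_iff_succ_le.1 h))
  exact fun i => (le_total m i).elim (h1 i) (h2 i)

end Groth.Misc6.LinkedGrass
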