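import Mathlib
import Groth.Agent.Misc6.LinkedGrass.Paths

/-!
# Linked subspaces over a field

A linked tuple of subspaces is spanned by paths from generators; generators sitting at one vertex
come in two adjacent halves exactly where exactness fails.
-/

set_option autoImplicit false

universe u v

noncomputable section

namespace Groth.Misc6.LinkedGrass

section Generate

variable {L : Type u} [CommRing L] {W : Type v} [AddCommGroup W] [Module L W] {n : ℕ}

/-- a linked sub-tuple containing generators is everything -/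
theorem eq_of_generate (F G : Fin n → Module.End L W) (hFG : ∀ i, F i * G i = 0) (hGF : ∀ i, G i * F i = 0)
    (V S : Fin (n + 1) → Submodule L W) (hSV : ∀ i, S i ≤ V i)
    (hSF : ∀ i, (S i.castSucc).map (F i) ≤ S i.succ) (hSG : ∀ i, (S i.succ).map (G i) ≤ S i.castSucc)
    (hgen : ∀ i (x : W), x ∈ V i → x ∈ S i ⊔
      ((⨆ (j : Fin n) (_ : j.succ = i), (V j.castSucc).map (F j)) ⊔
        ⨆ (j : Fin n) (_ : j.castSucc = i), (V j.succ).map (G j))) :
    S = V := by
  have hF : ∀ i : Fin (n + 1), ∀ j : Fin n, j.castSucc = i → (V i).map (F j) ≤ S j.succ := by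
    intro i
    induction i using Fin.induction with
    | zero =>
      rintro j hj _ ⟨x, hx, rfl⟩
      obtain ⟨a, ha, b, hb, rfl⟩ := Submodule.mem_sup.1 (hgen 0 x hx)
      rw [map_add]
      refine add_mem (hSF j ⟨a, hj ▸ ha, rfl⟩) ?_
      have hb' : b ∈ (⊤ : Submodule L W).map (G j) := by
        refine (sup_le ?_ ?_ : _ ≤ (⊤ : Submodule L W).map (G j)) hb
        · exact iSup₂_le fun j' hj' => absurd hj' (Fin.succ_ne_zero j')
        · refine iSup₂_le fun j' hj' => ?_
          obtain rfl := Fin.castSucc_injective _ (hj'.trans hj.symm)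
          exact Submodule.map_mono le_top
      obtain ⟨y, -, rfl⟩ := hb'
      rw [← Module.End.mul_apply, hFG]
      simp
    | succ i ih =>
      rintro j hj _ ⟨x, hx, rfl⟩
      obtain ⟨a, ha, b, hb, rfl⟩ := Submodule.mem_sup.1 (hgen _ x hx)
      rw [map_add]
      refine add_mem (hSF j ⟨a, hj ▸ ha, rfl⟩) ?_
      obtain ⟨c, hc, e, he, rfl⟩ := Submodule.mem_sup.1 hb
      rw [map_add]
      refine add_mem (hSF j ⟨c, ?_, rfl⟩) ?_
      · rw [hj]
        refine (iSup₂_le fun j' hj' => ?_ : _ ≤ S i.succ) hc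
        obtain rfl := Fin.succ_injective _ hj'
        exact ih _ rfl
      · have he' : e ∈ (⊤ : Submodule L W).map (G j) := by
          refine (iSup₂_le fun j' hj' => ?_ : _ ≤ (⊤ : Submodule L W).map (G j)) he
          obtain rfl := Fin.castSucc_injective _ (hj'.trans hj.symm)
          exact Submodule.map_mono le_top
        obtain ⟨y, -, rfl⟩ := he'
        rw [← Module.End.mul_apply, hFG]
        simp
  have hG : ∀ i : Fin (n + 1), ∀ j : Fin n, j.succ = i → (V i).map (G j) ≤ S j.castSucc := by
    intro i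
    induction i using Fin.reverseInduction with
    | last =>
      rintro j hj _ ⟨x, hx, rfl⟩
      obtain ⟨a, ha, b, hb, rfl⟩ := Submodule.mem_sup.1 (hgen _ x hx)
      rw [map_add]
      refine add_mem (hSG j ⟨a, hj ▸ ha, rfl⟩) ?_
      have hb' : b ∈ (⊤ : Submodule L W).map (F j) := by
        refine (sup_le ?_ ?_ : _ ≤ (⊤ : Submodule L W).map (F j)) hb
        · refine iSup₂_le fun j' hj' => ?_
          obtain rfl := Fin.succ_injective _ (hj'.trans hj.symm)
          exact Submodule.map_mono le_top
        · exact iSup₂_le fun j' hj' => absurd hj' (Fin.castSucc_lt_last j').ne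
      obtain ⟨y, -, rfl⟩ := hb'
      rw [← Module.End.mul_apply, hGF]
      simp
    | cast i ih =>
      rintro j hj _ ⟨x, hx, rfl⟩
      obtain ⟨a, ha, b, hb, rfl⟩ := Submodule.mem_sup.1 (hgen _ x hx)
      rw [map_add]
      refine add_mem (hSG j ⟨a, hj ▸ ha, rfl⟩) ?_
      obtain ⟨c, hc, e, he, rfl⟩ := Submodule.mem_sup.1 hb
      rw [map_add]
      refine add_mem ?_ (hSG j ⟨e, ?_, rfl⟩)
      · have hc' : c ∈ (⊤ : Submodule L W).map (F j) := by
          refine (iSup₂_le fun j' hj' => ?_ : _ ≤ (⊤ : Submodule L W).map (F j)) hc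
          obtain rfl := Fin.succ_injective _ (hj'.trans hj.symm)
          exact Submodule.map_mono le_top
        obtain ⟨y, -, rfl⟩ := hc'
        rw [← Module.End.mul_apply, hGF]
        simp
      · rw [hj]
        refine (iSup₂_le fun j' hj' => ?_ : _ ≤ S i.castSucc) he
        obtain rfl := Fin.castSucc_injective _ hj'
        exact ih _ rfl
  funext i
  refine le_antisymm (hSV i) fun x hx => (sup_le le_rfl (sup_le ?_ ?_) : _ ≤ S i) (hgen i x hx)
  · refine iSup₂_le fun j hj => ?_
    subst hj
    exact hF _ j rfl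
  · refine iSup₂_le fun j hj => ?_
    subst hj
    exact hG _ j rfl

end Generate

variable {L : Type u} [Field L] {W : Type v} [AddCommGroup W] [Module L W] [FiniteDimensional L W]
variable {n r : ℕ}

theorem finrank_map_add_finrank_ker (h : Module.End L W) (U : Submodule L W) :
    Module.finrank L (U.map h) + Module.finrank L ↥(U ⊓ LinearMap.ker h) = Module.finrank L U := by
  rw [← (h.domRestrict U).finrank_range_add_finrank_ker]
  congr 1
  · rw [LinearMap.range_domRestrict]
  · rw [LinearMap.ker_domRestrict, ← Submodule.finrank_map_subtype_eq, Submodule.map_comap_subtype]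

theorem exists_compl_within {P Q : Submodule L W} (h : P ≤ Q) :
    ∃ C : Submodule L W, C ≤ Q ∧ P ⊔ C = Q ∧ Module.finrank L P + Module.finrank L C = Module.finrank L Q := by
  obtain ⟨C, hd, hs⟩ := IsModularLattice.exists_disjoint_and_sup_eq h
  refine ⟨C, hs ▸ le_sup_right, hs, ?_⟩
  rw [← Submodule.finrank_sup_add_finrank_inf_eq, hd.eq_bot, finrank_bot, add_zero, hs]

theorem exists_basis_fun (U : Submodule L W) :
    ∃ b : Fin (Module.finrank L U) → W, Submodule.span L (Set.range b) = U := by
  refine ⟨fun j => (Module.finBasis L U j : W), ?_⟩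
  rw [show (fun j => (Module.finBasis L U j : W)) = U.subtype ∘ Module.finBasis L U from rfl,
    Set.range_comp, Submodule.span_image, (Module.finBasis L U).span_eq, Submodule.map_top,
    Submodule.range_subtype]

theorem linearIndependent_of_top_le_span_of_card_eq_finrank_aux {v : Fin r → W} {U : Submodule L W}
    (h : Submodule.span L (Set.range v) = U) (hU : Module.finrank L U = r) : LinearIndependent L v := by
  rw [linearIndependent_iff_card_eq_finrank_span, Set.finrank, h, hU, Fintype.card_fin]

/-- Generators in halves. -/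
structure Halves (F G : Fin n → Module.End L W) (V : Fin (n + 1) → Submodule L W) (r : ℕ) where
  /-- the left vertex -/
  lo : Fin r → Fin (n + 1)
  /-- the right vertex -/
  hi : Fin r → Fin (n + 1)
  /-- the left half -/
  a : Fin r → W
  /-- the right half -/
  b : Fin r → W
  mem_a : ∀ α, a α ∈ V (lo α)
  mem_b : ∀ α, b α ∈ V (hi α)
  cases_adj : ∀ α, (hi α = lo α ∧ b α = a α) ∨
    ∃ i : Fin n, lo α = i.castSucc ∧ hi α = i.succ ∧ F i (a α) = 0 ∧ G i (b α) = 0
  span_eq : ∀ i, Submodule.span L (Set.range fun α =>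
    if i ≤ lo α then path F G (lo α) i (a α) else path F G (hi α) i (b α)) = V i
  indep : ∀ i, LinearIndependent L fun α =>
    if i ≤ lo α then path F G (lo α) i (a α) else path F G (hi α) i (b α)

namespace Halves

variable {F G : Fin n → Module.End L W} {V : Fin (n + 1) → Submodule L W}

/-- the vectors -/
abbrev vec (H : Halves F G V r) (i : Fin (n + 1)) (α : Fin r) : W :=
  if i ≤ H.lo α then path F G (H.lo α) i (H.a α) else path F G (H.hi α) i (H.b α)

theorem hi_le_of_not_le (H : Halves F G V r) {i : Fin (n + 1)} {α : Fin r} (h : ¬ i ≤ H.lo α) : H.hi α ≤ i := by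
  rcases H.cases_adj α with ⟨he, -⟩ | ⟨j, hl, hh, -, -⟩
  · rw [he]; exact (not_le.1 h).le
  · rw [hh]; rw [hl] at h; exact Fin.castSucc_lt_iff_succ_le.1 (not_le.1 h)

end Halves

variable (F G : Fin n → Module.End L W)

omit [FiniteDimensional L W] in
theorem vec_linked (hFG : ∀ i, F i * G i = 0) (hGF : ∀ i, G i * F i = 0) {ι : Type}
    (lo hi : ι → Fin (n + 1)) (a b : ι → W)
    (hadj : ∀ α, (hi α = lo α ∧ b α = a α) ∨
      ∃ i : Fin n, lo α = i.castSucc ∧ hi α = i.succ ∧ F i (a α) = 0 ∧ G i (b α) = 0) (i : Fin n) (α : ι) :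
    (F i (if i.castSucc ≤ lo α then path F G (lo α) i.castSucc (a α) else path F G (hi α) i.castSucc (b α)) ∈
      ({0, if i.succ ≤ lo α then path F G (lo α) i.succ (a α) else path F G (hi α) i.succ (b α)} : Set W)) ∧
    (G i (if i.succ ≤ lo α then path F G (lo α) i.succ (a α) else path F G (hi α) i.succ (b α)) ∈
      ({0, if i.castSucc ≤ lo α then path F G (lo α) i.castSucc (a α) else path F G (hi α) i.castSucc (b α)} :
        Set W)) := by
  have hFG' : ∀ i, F i * G i = (0 : L) • (1 : Module.End L W) := fun i => by rw [hFG, zero_smul]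
  have hGF' : ∀ i, G i * F i = (0 : L) • (1 : Module.End L W) := fun i => by rw [hGF, zero_smul]
  by_cases h1 : i.succ ≤ lo α
  · have h2 : i.castSucc < lo α := Fin.castSucc_lt_iff_succ_le.2 h1
    rw [if_pos h1, if_pos h2.le, F_path_apply hFG', G_path_apply hGF', if_neg (not_le.2 h2), if_pos h2]
    simp
  · rw [if_neg h1]
    by_cases h2 : i.castSucc ≤ lo α
    · have he : lo α = i.castSucc :=
        le_antisymm (Fin.le_castSucc_iff.2 (not_le.1 h1)) h2
      rw [if_pos h2]
      rcases hadj α with ⟨hh, hb⟩ | ⟨j, hl, hh, hFa, hGb⟩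
      · rw [hh, hb, F_path_apply hFG', G_path_apply hGF', if_pos he.le, if_neg (not_lt.2 he.le)]
        simp
      · obtain rfl := Fin.castSucc_injective _ (hl.symm.trans he)
        rw [hl, hh, path_self, path_self, Module.End.one_apply, Module.End.one_apply, hFa, hGb]
        simp
    · have h3 : hi α ≤ i.castSucc := by
        rcases hadj α with ⟨hh, -⟩ | ⟨j, hl, hh, -, -⟩
        · rw [hh]; exact (not_le.1 h2).le
        · rw [hh]; rw [hl] at h2; exact Fin.castSucc_lt_iff_succ_le.1 (not_le.1 h2)
      rw [if_neg h2, F_path_apply hFG', G_path_apply hGF', if_pos h3, if_neg (not_lt.2 h3)]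
      simp

/-- Every linked tuple has generators in halves. -/
theorem exists_halves (hFG : ∀ i, F i * G i = 0) (hGF : ∀ i, G i * F i = 0)
    (hdis : ∀ i j : Fin n, i.val + 1 = j.val → ∀ x, F j x = 0 → G i x = 0 → x = 0)
    (V : Fin (n + 1) → Submodule L W) (hV : ∀ i, Module.finrank L (V i) = r)
    (hF : ∀ i, (V i.castSucc).map (F i) ≤ V i.succ) (hG : ∀ i, (V i.succ).map (G i) ≤ V i.castSucc) :
    Nonempty (Halves F G V r) := by
  classical
  -- the kernels on the two sides
  let K : Fin (n + 1) → Submodule L W :=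
    Fin.lastCases (motive := fun _ => Submodule L W) ⊥ fun i => V i.castSucc ⊓ LinearMap.ker (F i)
  let K' : Fin (n + 1) → Submodule L W :=
    Fin.cases (motive := fun _ => Submodule L W) ⊥ fun i => V i.succ ⊓ LinearMap.ker (G i)
  have hK : ∀ i : Fin n, K i.castSucc = V i.castSucc ⊓ LinearMap.ker (F i) := fun i => by simp [K]
  have hKn : K (Fin.last n) = ⊥ := by simp [K]
  have hK' : ∀ i : Fin n, K' i.succ = V i.succ ⊓ LinearMap.ker (G i) := fun i => by simp [K']
  have hK'0 : K' 0 = ⊥ := by simp [K']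
  have hKV : ∀ m, K m ≤ V m := by
    refine Fin.lastCases ?_ fun i => ?_
    · rw [hKn]; exact bot_le
    · rw [hK]; exact inf_le_left
  have hK'V : ∀ m, K' m ≤ V m := by
    refine Fin.cases ?_ fun i => ?_
    · rw [hK'0]; exact bot_le
    · rw [hK']; exact inf_le_left
  have hKK' : ∀ m, K m ⊓ K' m = ⊥ := by
    intro m
    rw [Submodule.eq_bot_iff]
    intro x hx
    obtain ⟨h1, h2⟩ := Submodule.mem_inf.1 hx
    revert h1 h2
    refine Fin.lastCases ?_ (fun i => ?_) m
    · intro h1 _; rw [hKn] at h1; simpa using h1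
    · intro h1 h2
      rw [hK] at h1
      generalize hm : i.castSucc = m at h2
      revert h2 hm
      refine Fin.cases ?_ (fun j => ?_) m
      · intro _ h2; rw [hK'0] at h2; simpa using h2
      · intro hm h2
        rw [hK'] at h2
        exact hdis j i (by simpa [Fin.ext_iff] using hm.symm) x h1.2 h2.2
  have hgF : ∀ i : Fin n, (V i.succ).map (G i) ≤ K i.castSucc := fun i => by
    rw [hK]
    refine le_inf (hG i) ?_
    rintro _ ⟨x, -, rfl⟩
    rw [LinearMap.mem_ker, ← Module.End.mul_apply, hFG]
    rfl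
  have hfG : ∀ i : Fin n, (V i.castSucc).map (F i) ≤ K' i.succ := fun i => by
    rw [hK']
    refine le_inf (hF i) ?_
    rintro _ ⟨x, -, rfl⟩
    rw [LinearMap.mem_ker, ← Module.End.mul_apply, hGF]
    rfl
  choose D hDK hDsup hDdim using fun i => exists_compl_within (hgF i)
  choose Z hZK hZsup hZdim using fun i => exists_compl_within (hfG i)
  choose C hCV hCsup hCdim using fun m => exists_compl_within (sup_le (hKV m) (hK'V m))
  have hrkF : ∀ i : Fin n, Module.finrank L ((V i.castSucc).map (F i)) + Module.finrank L (K i.castSucc) = r :=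
    fun i => by rw [hK, finrank_map_add_finrank_ker, hV]
  have hrkG : ∀ i : Fin n, Module.finrank L ((V i.succ).map (G i)) + Module.finrank L (K' i.succ) = r :=
    fun i => by rw [hK', finrank_map_add_finrank_ker, hV]
  have hDZ : ∀ i, Module.finrank L (D i) = Module.finrank L (Z i) := fun i => by
    have := hrkF i; have := hrkG i; have := hDdim i; have := hZdim i; omega
  have hsum : ∀ m, Module.finrank L (C m) + (Module.finrank L (K m) + Module.finrank L (K' m)) = r := fun m => by
    rw [← hV m, ← hCdim m, add_comm, ← Submodule.finrank_sup_add_finrank_inf_eq, hKK' m, finrank_bot, add_zero]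
  let ι := (Σ m : Fin (n + 1), Fin (Module.finrank L (C m))) ⊕ (Σ i : Fin n, Fin (Module.finrank L (D i)))
  have hcard : Fintype.card ι = r := by
    simp only [ι, Fintype.card_sum, Fintype.card_sigma, Fintype.card_fin]
    have h1 : ∑ m, Module.finrank L (K m) = ∑ i : Fin n, Module.finrank L (K i.castSucc) := by
      rw [Fin.sum_univ_castSucc, hKn, finrank_bot, add_zero]
    have h2 : ∑ m, Module.finrank L (K' m) = ∑ i : Fin n, Module.finrank L (K' i.succ) := by
      rw [Fin.sum_univ_succ, hK'0, finrank_bot, zero_add]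
    have h3 : ∑ i : Fin n, Module.finrank L (K i.castSucc) + ∑ i : Fin n, Module.finrank L (K' i.succ) =
        n * r + ∑ i : Fin n, Module.finrank L (D i) := by
      rw [← Finset.sum_add_distrib]
      calc _ = ∑ i : Fin n, (r + Module.finrank L (D i)) :=
            Finset.sum_congr rfl fun i _ => by
              have := hrkF i; have := hZdim i; have := hDZ i; omega
        _ = _ := by simp [Finset.sum_add_distrib]
    have h4 : ∑ m, (Module.finrank L (C m) + (Module.finrank L (K m) + Module.finrank L (K' m))) =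
        (n + 1) * r := by
      simp [hsum]
    rw [Finset.sum_add_distrib, Finset.sum_add_distrib, h1, h2, h3, Nat.succ_mul] at h4
    omega
  choose cb hcb using fun m => exists_basis_fun (C m)
  choose db hdb using fun i => exists_basis_fun (D i)
  choose zb hzb using fun i => exists_basis_fun (Z i)
  let lo : ι → Fin (n + 1) := Sum.elim (fun p => p.1) fun p => p.1.castSucc
  let hi : ι → Fin (n + 1) := Sum.elim (fun p => p.1) fun p => p.1.succ
  let a : ι → W := Sum.elim (fun p => cb p.1 p.2) fun p => db p.1 p.2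
  let b : ι → W := Sum.elim (fun p => cb p.1 p.2) fun p => zb p.1 (Fin.cast (hDZ p.1) p.2)
  have hCb : ∀ m j, cb m j ∈ C m := fun m j => by rw [← hcb m]; exact Submodule.subset_span ⟨j, rfl⟩
  have hDb : ∀ i j, db i j ∈ D i := fun i j => by rw [← hdb i]; exact Submodule.subset_span ⟨j, rfl⟩
  have hZb : ∀ i j, zb i j ∈ Z i := fun i j => by rw [← hzb i]; exact Submodule.subset_span ⟨j, rfl⟩
  have ha : ∀ α, a α ∈ V (lo α) := by
    rintro (⟨m, j⟩ | ⟨i, j⟩)
    · exact hCV _ (hCb m j)
    · exact hKV _ (hDK _ (hDb i j))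
  have hb : ∀ α, b α ∈ V (hi α) := by
    rintro (⟨m, j⟩ | ⟨i, j⟩)
    · exact hCV _ (hCb m j)
    · exact hK'V _ (hZK _ (hZb i _))
  have hadj : ∀ α, (hi α = lo α ∧ b α = a α) ∨
      ∃ i : Fin n, lo α = i.castSucc ∧ hi α = i.succ ∧ F i (a α) = 0 ∧ G i (b α) = 0 := by
    rintro (⟨m, j⟩ | ⟨i, j⟩)
    · exact Or.inl ⟨rfl, rfl⟩
    · refine Or.inr ⟨i, rfl, rfl, ?_, ?_⟩
      · have := hDK _ (hDb i j); rw [hK] at this; exact this.2
      · have := hZK _ (hZb i (Fin.cast (hDZ i) j)); rw [hK'] at this; exact this.2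
  let vec : Fin (n + 1) → ι → W := fun i α => if i ≤ lo α then path F G (lo α) i (a α) else path F G (hi α) i (b α)
  let S : Fin (n + 1) → Submodule L W := fun i => Submodule.span L (Set.range (vec i))
  have hSF : ∀ i, (S i.castSucc).map (F i) ≤ S i.succ := fun i => by
    rw [Submodule.map_span, Submodule.span_le]
    rintro _ ⟨_, ⟨α, rfl⟩, rfl⟩
    rcases (vec_linked F G hFG hGF lo hi a b hadj i α).1 with h | h
    · rw [SetLike.mem_coe]; simp only [vec]; rw [h]; exact zero_mem _
    · exact Submodule.subset_span ⟨α, h.symm⟩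
  have hSG : ∀ i, (S i.succ).map (G i) ≤ S i.castSucc := fun i => by
    rw [Submodule.map_span, Submodule.span_le]
    rintro _ ⟨_, ⟨α, rfl⟩, rfl⟩
    rcases (vec_linked F G hFG hGF lo hi a b hadj i α).2 with h | h
    · rw [SetLike.mem_coe]; simp only [vec]; rw [h]; exact zero_mem _
    · exact Submodule.subset_span ⟨α, h.symm⟩
  have hSV : ∀ i, S i ≤ V i := by
    intro i
    rw [Submodule.span_le]
    rintro _ ⟨α, rfl⟩
    have hloP : ∀ i, i ≤ lo α → path F G (lo α) i (a α) ∈ V i := by
      refine forall_of_step (fun i => i ≤ lo α → path F G (lo α) i (a α) ∈ V i) (lo α)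
        (fun _ => by simpa using ha α) (fun i h _ h' => ?_) (fun i h ih _ => ?_)
      · exact absurd (h.trans_lt Fin.castSucc_lt_succ) (not_lt.2 h')
      · rw [path_castSucc_apply h]
        exact hG i ⟨_, ih (Fin.castSucc_lt_iff_succ_le.1 h), rfl⟩
    have hhiP : ∀ i, hi α ≤ i → path F G (hi α) i (b α) ∈ V i := by
      refine forall_of_step (fun i => hi α ≤ i → path F G (hi α) i (b α) ∈ V i) (hi α)
        (fun _ => by simpa using hb α) (fun i h ih _ => ?_) (fun i h _ h' => ?_)
      · rw [path_succ_apply h]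
        exact hF i ⟨_, ih h, rfl⟩
      · exact absurd h' (not_le.2 h)
    by_cases h : i ≤ lo α
    · simpa [vec, h] using hloP i h
    · have h' : hi α ≤ i := by
        rcases hadj α with ⟨he, -⟩ | ⟨j, hl, hh, -, -⟩
        · rw [he]; exact (not_le.1 h).le
        · rw [hh]; rw [hl] at h; exact Fin.castSucc_lt_iff_succ_le.1 (not_le.1 h)
      simpa [vec, h] using hhiP i h'
  have hCS : ∀ m, C m ≤ S m := fun m => by
    rw [← hcb m, Submodule.span_le]
    rintro _ ⟨j, rfl⟩
    exact Submodule.subset_span ⟨Sum.inl ⟨m, j⟩, by simp [vec, lo, a]⟩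
  have hDS : ∀ i, D i ≤ S i.castSucc := fun i => by
    rw [← hdb i, Submodule.span_le]
    rintro _ ⟨j, rfl⟩
    exact Submodule.subset_span ⟨Sum.inr ⟨i, j⟩, by simp [vec, lo, a]⟩
  have hZS : ∀ i, Z i ≤ S i.succ := fun i => by
    rw [← hzb i, Submodule.span_le]
    rintro _ ⟨j, rfl⟩
    exact Submodule.subset_span ⟨Sum.inr ⟨i, Fin.cast (hDZ i).symm j⟩, by
      simp [vec, lo, hi, b, Fin.castSucc_lt_succ]⟩
  have hgen : ∀ m (x : W), x ∈ V m → x ∈ S m ⊔
      ((⨆ (j : Fin n) (_ : j.succ = m), (V j.castSucc).map (F j)) ⊔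
        ⨆ (j : Fin n) (_ : j.castSucc = m), (V j.succ).map (G j)) := by
    intro m x hx
    rw [← hCsup m] at hx
    refine (sup_le (sup_le ?_ ?_) ((hCS m).trans le_sup_left) : K m ⊔ K' m ⊔ C m ≤ _) hx
    · refine Fin.lastCases ?_ (fun i => ?_) m
      · rw [hKn]; exact bot_le
      · rw [← hDsup i]
        exact sup_le (le_sup_of_le_right (le_sup_of_le_right (le_iSup₂_of_le i rfl le_rfl)))
          ((hDS i).trans le_sup_left)
    · refine Fin.cases ?_ (fun i => ?_) m
      · rw [hK'0]; exact bot_le
      · rw [← hZsup i]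
        exact sup_le (le_sup_of_le_right (le_sup_of_le_left (le_iSup₂_of_le i rfl le_rfl)))
          ((hZS i).trans le_sup_left)
  have hS : S = V := eq_of_generate F G hFG hGF V S hSV hSF hSG hgen
  let e : Fin r ≃ ι := (Fintype.equivFinOfCardEq hcard).symm
  have hspan : ∀ i, Submodule.span L (Set.range fun α : Fin r => vec i (e α)) = V i := fun i => by
    rw [show (fun α : Fin r => vec i (e α)) = vec i ∘ e from rfl, e.surjective.range_comp]
    exact congrFun hS i
  exact ⟨{
    lo := lo ∘ e, hi := hi ∘ e, a := a ∘ e, b := b ∘ e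
    mem_a := fun α => ha _, mem_b := fun α => hb _
    cases_adj := fun α => hadj _
    span_eq := hspan
    indep := fun i => linearIndependent_of_top_le_span_of_card_eq_finrank_aux (hspan i) (hV i) }⟩

end Groth.Misc6.LinkedGrass
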