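import Mathlib
import Groth.Agent.GrassRep.Linked
import Groth.Agent.Misc6.LinkedGrass.Paths
import Groth.Prelude.Def_W4c1limliniiiiLG

/-!
# Points of linked Grassmannians spanned by vectors
-/

set_option autoImplicit false

universe u

open TensorProduct Module Matrix
open Groth.GrassRep

noncomputable section

namespace Groth.Misc6.LinkedGrass

variable {k : Type u} [CommRing k] {d r q n : ℕ}
variable {A B : Type u} [CommRing A] [Algebra k A] [CommRing B] [Algebra k B]

/-- the ambient free module over `A` -/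
abbrev MA (k : Type u) [CommRing k] (A : Type u) [CommRing A] [Algebra k A] (d : ℕ) : Type u := A ⊗[k] (Fin d → k)

/-- standard coordinates -/
def co (k : Type u) [CommRing k] (A : Type u) [CommRing A] [Algebra k A] (d : ℕ) : MA k A d ≃ₗ[A] (Fin d → A) :=
  TensorProduct.piScalarRight k A A (Fin d)

theorem co_tmul (a : A) (v : Fin d → k) (c : Fin d) : co k A d (a ⊗ₜ[k] v) c = v c • a := by
  simp [co]

theorem co_single (c : Fin d) : co k A d ((1 : A) ⊗ₜ[k] (Pi.single c 1 : Fin d → k)) = Pi.single c 1 := by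
  funext c'
  rw [co_tmul]
  simp [Pi.single_apply]

theorem co_iota (φ : A →ₐ[k] B) (z : MA k A d) (c : Fin d) : co k B d (iota φ z) c = φ (co k A d z c) := by
  induction z using TensorProduct.induction_on with
  | zero => simp
  | tmul a v => rw [iota_tmul, co_tmul, co_tmul, map_smul]
  | add x y hx hy => simp [map_add, hx, hy]

variable (ε : Fin q ⊕ Fin r ≃ Fin d)

/-- the complement chosen by a frame -/
def xτ (k : Type u) [CommRing k] : Fin q → (Fin d → k) := xs k fun j => ε (Sum.inl j)

/-- the minor of a frame -/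
def minor (v : Fin r → MA k A d) : Matrix (Fin r) (Fin r) A :=
  Matrix.of fun α j => co k A d (v α) (ε (Sum.inr j))

theorem det_minor_iota (φ : A →ₐ[k] B) (v : Fin r → MA k A d) :
    (minor ε fun α => iota φ (v α)).det = φ (minor ε v).det := by
  rw [AlgHom.map_det]
  congr 1
  ext α j
  simp [minor, co_iota]

theorem mkQ_eq_sel (N : Grassmannian A (MA k A d) q) (z : MA k A d) (hz : ∀ j, co k A d z (ε (Sum.inr j)) = 0) :
    N.toSubmodule.mkQ z = sel (xτ ε k) N fun j => co k A d z (ε (Sum.inl j)) := by
  rw [sel_apply]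
  congr 1
  refine (co k A d).injective (funext fun c => ?_)
  obtain ⟨c, rfl⟩ := ε.surjective c
  simp only [map_sum, map_smul, Finset.sum_apply, Pi.smul_apply, smul_eq_mul, xτ, xs, co_single]
  rcases c with l | l
  · rw [Finset.sum_eq_single l (fun j _ hj => by simp [hj.symm]) (by simp)]
    simp
  · rw [hz, Finset.sum_eq_zero fun j _ => by simp]

theorem eq_zero_of_mem {N : Grassmannian A (MA k A d) q} (h : InChart (xτ ε k) N) {z : MA k A d}
    (hzN : z ∈ N.toSubmodule) (hz : ∀ j, co k A d z (ε (Sum.inr j)) = 0) : z = 0 := by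
  have h0 := mkQ_eq_sel ε N z hz
  rw [Submodule.mkQ_apply, (Submodule.Quotient.mk_eq_zero _).2 hzN, ← map_zero (sel (xτ ε k) N)] at h0
  have h1 := h.injective h0
  refine (co k A d).injective (funext fun c => ?_)
  obtain ⟨c, rfl⟩ := ε.surjective c
  rcases c with l | l
  · simpa using (congrFun h1 l).symm
  · simpa using hz l

/-- the part of a vector beyond a frame -/
def resid (v : Fin r → MA k A d) : MA k A d →ₗ[A] (Fin q → A) where
  toFun z j := co k A d (z - ∑ α, Matrix.vecMul (fun l => co k A d z (ε (Sum.inr l))) (minor ε v)⁻¹ α • v α) (ε (Sum.inl j))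
  map_add' x y := by
    funext j
    simp only [map_add, Pi.add_apply, show (fun l => co k A d x (ε (Sum.inr l)) + co k A d y (ε (Sum.inr l))) =
      (fun l => co k A d x (ε (Sum.inr l))) + (fun l => co k A d y (ε (Sum.inr l))) from rfl, Matrix.add_vecMul,
      add_smul, Finset.sum_add_distrib, map_sub, map_add, Pi.sub_apply]
    ring
  map_smul' c x := by
    funext j
    rw [show (fun l => co k A d (c • x) (ε (Sum.inr l))) = c • fun l => co k A d x (ε (Sum.inr l)) from by
      funext l; simp, Matrix.smul_vecMul]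
    simp only [Pi.smul_apply, smul_eq_mul, ← smul_smul, ← Finset.smul_sum, ← smul_sub, map_smul,
      RingHom.id_apply]

theorem coeff_sum (v : Fin r → MA k A d) (c : Fin r → A) (j : Fin r) :
    co k A d (∑ α, c α • v α) (ε (Sum.inr j)) = Matrix.vecMul c (minor ε v) j := by
  simp [Matrix.vecMul, dotProduct, minor]

theorem eq_span {N : Grassmannian A (MA k A d) q} (h : InChart (xτ ε k) N) {v : Fin r → MA k A d}
    (hv : ∀ α, v α ∈ N.toSubmodule) (hD : IsUnit (minor ε v).det) :
    N.toSubmodule = Submodule.span A (Set.range v) := by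
  refine le_antisymm (fun z hz => ?_) (Submodule.span_le.2 (by rintro _ ⟨α, rfl⟩; exact hv α))
  set c := Matrix.vecMul (fun l => co k A d z (ε (Sum.inr l))) (minor ε v)⁻¹
  have hmem : ∑ α, c α • v α ∈ Submodule.span A (Set.range v) :=
    Submodule.sum_mem _ fun α _ => Submodule.smul_mem _ _ (Submodule.subset_span ⟨α, rfl⟩)
  have h0 : z - ∑ α, c α • v α = 0 := eq_zero_of_mem ε h
    (sub_mem hz (Submodule.sum_mem _ fun α _ => Submodule.smul_mem _ _ (hv α))) fun j => by
      rw [map_sub, Pi.sub_apply, coeff_sum, Matrix.vecMul_vecMul, Matrix.nonsing_inv_mul _ hD, Matrix.vecMul_one,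
        sub_self]
  rw [sub_eq_zero] at h0
  rwa [h0]

theorem linearIndependent_of_unit {v : Fin r → MA k A d} (hD : IsUnit (minor ε v).det) : LinearIndependent A v := by
  rw [Fintype.linearIndependent_iff]
  intro c hc
  have h : Matrix.vecMul c (minor ε v) = 0 := funext fun j => by rw [← coeff_sum ε v c j, hc]; simp
  have := congrArg (fun x => Matrix.vecMul x (minor ε v)⁻¹) h
  simp only [Matrix.vecMul_vecMul, Matrix.mul_nonsing_inv _ hD, Matrix.vecMul_one, Matrix.zero_vecMul] at this
  exact congrFun this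

theorem exists_point {v : Fin r → MA k A d} (hD : IsUnit (minor ε v).det) :
    ∃ N : Grassmannian A (MA k A d) q, InChart (xτ ε k) N ∧ N.toSubmodule = Submodule.span A (Set.range v) := by
  classical
  let φ : ChartMap k A (xτ ε k) := ⟨((resid ε v).restrictScalars k).comp (TensorProduct.mk k A _ 1), fun l => by
    funext j
    simp only [LinearMap.comp_apply, LinearMap.restrictScalars_apply, TensorProduct.mk_apply, resid,
      LinearMap.coe_mk, AddHom.coe_mk, xτ, xs, co_single]
    rw [show (fun m : Fin r => (Pi.single (ε (Sum.inl l)) (1 : A) : Fin d → A) (ε (Sum.inr m))) = 0 from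
      funext fun m => by simp, Matrix.zero_vecMul]
    simp [co_single, Pi.single_apply]⟩
  have hlift : φ.1.liftBaseChange A = resid ε v := by
    refine LinearMap.ext fun z => ?_
    induction one_tmul_span z using Submodule.span_induction with
    | mem y hy => obtain ⟨m, rfl⟩ := hy; simp [φ]
    | zero => simp
    | add x y _ _ hx hy => simp [hx, hy]
    | smul b x _ hx => simp [hx]
  refine ⟨ofCoef φ, inChart_ofCoef φ, eq_span ε (inChart_ofCoef φ) (fun α => ?_) hD⟩
  change v α ∈ LinearMap.ker (φ.1.liftBaseChange A)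
  rw [hlift, LinearMap.mem_ker]
  funext j
  simp only [resid, LinearMap.coe_mk, AddHom.coe_mk]
  rw [show (fun l => co k A d (v α) (ε (Sum.inr l))) = Matrix.vecMul (Pi.single α 1) (minor ε v) by
    funext l; simp [Matrix.single_one_vecMul, minor], Matrix.vecMul_vecMul, Matrix.mul_nonsing_inv _ hD,
    Matrix.vecMul_one]
  simp [Pi.single_apply, ite_smul]

theorem finrank_eq_of_grassmannian {L : Type u} [Field L] [Algebra k L] (hqr : q + r = d)
    (N : Grassmannian L (MA k L d) q) : Module.finrank L N.toSubmodule = r := by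
  have h1 := N.toSubmodule.finrank_quotient_add_finrank
  have h2 : Module.finrank L (MA k L d ⧸ N.toSubmodule) = q := by
    have := N.rankAtStalk_eq ⟨⊥, Ideal.isPrime_bot⟩
    rwa [Module.rankAtStalk_eq_finrank_of_free] at this
  have h3 : Module.finrank L (MA k L d) = d := by rw [(co k L d).finrank_eq, Module.finrank_fin_fun]
  omega

/-- Over a field some frame fits. -/
theorem exists_frame {L : Type u} [Field L] [Algebra k L] (hqr : q + r = d)
    (N : Grassmannian L (MA k L d) q) :
    ∃ ε : Fin q ⊕ Fin r ≃ Fin d, InChart (xτ ε k) N ∧ ∀ v : Fin r → MA k L d, (∀ α, v α ∈ N.toSubmodule) →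
      LinearIndependent L v → IsUnit (minor ε v).det := by
  classical
  obtain ⟨x, hxs, hx⟩ := exists_inChart_field N (s := Set.range fun l : Fin d => (Pi.single l 1 : Fin d → k))
    (by simpa [← Pi.basisFun_apply] using (Pi.basisFun k (Fin d)).span_eq)
  choose τ hτ using hxs
  obtain rfl : x = xs k τ := funext fun i => (hτ i).symm
  have hinj := injective_of_inChart hx
  let e₁ : Fin q ≃ {l : Fin d // l ∈ Set.range τ} := Equiv.ofInjective τ hinj
  have hc : Fintype.card {l : Fin d // l ∉ Set.range τ} = r := by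
    rw [Fintype.card_subtype_compl, ← Fintype.card_congr e₁, Fintype.card_fin, Fintype.card_fin]
    omega
  let e₂ : Fin r ≃ {l : Fin d // l ∉ Set.range τ} := (Fintype.equivFinOfCardEq hc).symm
  let ε : Fin q ⊕ Fin r ≃ Fin d := (Equiv.sumCongr e₁ e₂).trans (Equiv.sumCompl _)
  have hετ : (fun j => ε (Sum.inl j)) = τ := funext fun j => by simp [ε, e₁]
  have hch : InChart (xτ ε k) N := by rw [xτ, hετ]; exact hx
  refine ⟨ε, hch, fun v hv hind => ?_⟩
  rw [isUnit_iff_ne_zero]
  intro h0
  obtain ⟨c, hc0, hcM⟩ := Matrix.exists_vecMul_eq_zero_iff.2 h0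
  refine hc0 (funext (Fintype.linearIndependent_iff.1 hind c (eq_zero_of_mem ε hch ?_ fun j => ?_)))
  · exact Submodule.sum_mem _ fun α _ => Submodule.smul_mem _ _ (hv α)
  · rw [coeff_sum, hcM]; rfl

/-- a field-valued chart membership descends -/
theorem inChart_of_map {K L : Type u} [Field K] [Algebra k K] [Field L] [Algebra k L] (φ : K →ₐ[k] L)
    {M : Type u} [AddCommGroup M] [Module k M] [Module.Finite k M] {x : Fin q → M}
    {N : Grassmannian K (K ⊗[k] M) q} (h : InChart x (Grassmannian.map φ N)) : InChart x N := by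
  have hinj : Function.Injective (sel x N) := by
    rw [← LinearMap.ker_eq_bot, LinearMap.ker_eq_bot']
    intro c hc
    rw [sel_apply, Submodule.mkQ_apply, Submodule.Quotient.mk_eq_zero] at hc
    have h1 := iota_mem_map φ N hc
    simp only [map_sum, iota_smul, iota_tmul, map_one] at h1
    have h2 : sel x (Grassmannian.map φ N) (φ ∘ c) = 0 := by
      rw [sel_apply, Submodule.mkQ_apply, Submodule.Quotient.mk_eq_zero]
      exact h1
    rw [← map_zero (sel x (Grassmannian.map φ N))] at h2
    have h3 := h.injective h2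
    funext i
    exact φ.toRingHom.injective (by simpa using congrFun h3 i)
  have hd : Module.finrank K ((K ⊗[k] M) ⧸ N.toSubmodule) = q := by
    have := N.rankAtStalk_eq ⟨⊥, Ideal.isPrime_bot⟩
    rwa [Module.rankAtStalk_eq_finrank_of_free] at this
  exact (LinearMap.injective_iff_surjective_of_finrank_eq_finrank (by rw [Module.finrank_fin_fun, hd])).1 hinj

/-! ### Paths over an algebra -/

variable (f g : Fin n → ((Fin d → k) →ₗ[k] (Fin d → k)))

/-- the forward maps over `A` -/
abbrev FA (A : Type u) [CommRing A] [Algebra k A] (i : Fin n) : Module.End A (MA k A d) :=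
  (f i).baseChange A

theorem FA_mul {s : k} {h h' : Fin n → ((Fin d → k) →ₗ[k] (Fin d → k))}
    (hI : ∀ i, (h i).comp (h' i) = s • LinearMap.id) (i : Fin n) :
    FA h A i * FA h' A i = algebraMap k A s • (1 : Module.End A (MA k A d)) := by
  rw [Module.End.mul_eq_comp, ← LinearMap.baseChange_comp, hI, LinearMap.baseChange_smul,
    LinearMap.baseChange_id, algebraMap_smul]
  rfl

/-- the paths over `A` -/
abbrev pathA (A : Type u) [CommRing A] [Algebra k A] (m i : Fin (n + 1)) : Module.End A (MA k A d) :=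
  path (FA f A) (FA g A) m i

theorem iota_pathA (φ : A →ₐ[k] B) (m i : Fin (n + 1)) (x : MA k A d) :
    iota φ (pathA f g A m i x) = pathA f g B m i (iota φ x) := by
  refine forall_of_step (fun i => iota φ (pathA f g A m i x) = pathA f g B m i (iota φ x)) m
    (by simp) (fun j h ih => ?_) (fun j h ih => ?_) i
  · rw [pathA, pathA, path_succ_apply h, path_succ_apply h, iota_baseChange, ih]
  · rw [pathA, pathA, path_castSucc_apply h, path_castSucc_apply h, iota_baseChange, ih]

variable {f g}

/-- a point spanned by linked families of vectors -/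
theorem exists_lgPoint {ε : Fin (n + 1) → (Fin (d - r) ⊕ Fin r ≃ Fin d)}
    {v : Fin (n + 1) → Fin r → MA k A d} (hD : ∀ i, IsUnit (minor (ε i) (v i)).det)
    (hF : ∀ (i : Fin n) α, FA f A i (v i.castSucc α) ∈ Submodule.span A (Set.range (v i.succ)))
    (hG : ∀ (i : Fin n) α, FA g A i (v i.succ α) ∈ Submodule.span A (Set.range (v i.castSucc))) :
    ∃ V : W4c1limliniiii.LGPoints k d r n f g A, ∀ i,
      InChart (xτ (ε i) k) (V.1 i) ∧ (V.1 i).toSubmodule = Submodule.span A (Set.range (v i)) := by
  choose N hN hNs using fun i => exists_point (ε i) (hD i)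
  refine ⟨⟨N, fun i => ⟨?_, ?_⟩⟩, fun i => ⟨hN i, hNs i⟩⟩
  · rw [hNs, hNs, Submodule.map_span, Submodule.span_le]
    rintro _ ⟨_, ⟨α, rfl⟩, rfl⟩
    exact hF i α
  · rw [hNs, hNs, Submodule.map_span, Submodule.span_le]
    rintro _ ⟨_, ⟨α, rfl⟩, rfl⟩
    exact hG i α

theorem pathA_mem (V : W4c1limliniiii.LGPoints k d r n f g A) {m : Fin (n + 1)} {x : MA k A d}
    (hx : x ∈ (V.1 m).toSubmodule) (i : Fin (n + 1)) : pathA f g A m i x ∈ (V.1 i).toSubmodule := by
  refine forall_of_step (fun i => pathA f g A m i x ∈ (V.1 i).toSubmodule) m (by simpa using hx)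
    (fun j h ih => ?_) (fun j h ih => ?_) i
  · rw [pathA, path_succ_apply h]; exact (V.2 j).1 ⟨_, ih, rfl⟩
  · rw [pathA, path_castSucc_apply h]; exact (V.2 j).2 ⟨_, ih, rfl⟩

variable (f g) in
/-- the vectors generated by `w` at the vertices `μ` -/
abbrev genVec (μ : Fin r → Fin (n + 1)) (w : Fin r → MA k A d) (i : Fin (n + 1)) (α : Fin r) :
    MA k A d :=
  pathA f g A (μ α) i (w α)

theorem genVec_linked {s : k} (hI : ∀ i, (f i).comp (g i) = s • LinearMap.id ∧ (g i).comp (f i) = s • LinearMap.id)
    (μ : Fin r → Fin (n + 1)) (w : Fin r → MA k A d) (i : Fin n) (α : Fin r) :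
    FA f A i (genVec f g μ w i.castSucc α) ∈ Submodule.span A (Set.range (genVec f g μ w i.succ)) ∧
      FA g A i (genVec f g μ w i.succ α) ∈ Submodule.span A (Set.range (genVec f g μ w i.castSucc)) := by
  constructor
  · rw [genVec, pathA, F_path_apply fun i => FA_mul (fun i => (hI i).1) i]
    exact Submodule.smul_mem _ _ (Submodule.subset_span ⟨α, rfl⟩)
  · rw [genVec, pathA, G_path_apply fun i => FA_mul (fun i => (hI i).2) i]
    exact Submodule.smul_mem _ _ (Submodule.subset_span ⟨α, rfl⟩)

theorem iota_genVec (φ : A →ₐ[k] B) (μ : Fin r → Fin (n + 1)) (w : Fin r → MA k A d) (i : Fin (n + 1)) :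
    (fun α => iota φ (genVec f g μ w i α)) = genVec f g μ (fun α => iota φ (w α)) i :=
  funext fun α => iota_pathA f g φ _ _ _

end Groth.Misc6.LinkedGrass
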