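import Mathlib
import Groth.Agent.Misc6.LinkedGrass.Field
import Groth.Agent.Misc6.LinkedGrass.Vectors

/-!
# Exact tuples and their degenerations
-/

set_option autoImplicit false

universe u

open TensorProduct Module
open Groth.GrassRep

noncomputable section

namespace Groth.Misc6.LinkedGrass

section General

variable {k : Type u} [CommRing k] {d r n : ℕ} {f g : Fin n → ((Fin d → k) →ₗ[k] (Fin d → k))}
variable {A : Type u} [CommRing A] [Algebra k A]

/-! ### Functoriality of points -/

variable {B : Type u} [CommRing B] [Algebra k B]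

/-- base change of a linked tuple -/
def mapPt (φ : A →ₐ[k] B) (V : W4c1limliniiii.LGPoints k d r n f g A) :
    W4c1limliniiii.LGPoints k d r n f g B :=
  ⟨fun i => Grassmannian.map φ (V.1 i), fun i => by
    constructor
    · rw [map_eq_span φ (V.1 i.castSucc), Submodule.map_span, Submodule.span_le]
      rintro _ ⟨_, ⟨z, hz, rfl⟩, rfl⟩
      rw [← iota_baseChange]
      exact iota_mem_map φ _ ((V.2 i).1 ⟨z, hz, rfl⟩)
    · rw [map_eq_span φ (V.1 i.succ), Submodule.map_span, Submodule.span_le]
      rintro _ ⟨_, ⟨z, hz, rfl⟩, rfl⟩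
      rw [← iota_baseChange]
      exact iota_mem_map φ _ ((V.2 i).2 ⟨z, hz, rfl⟩)⟩

@[simp] theorem mapPt_apply (φ : A →ₐ[k] B) (V : W4c1limliniiii.LGPoints k d r n f g A) (i : Fin (n + 1)) :
    (mapPt φ V).1 i = Grassmannian.map φ (V.1 i) := rfl

theorem mapPt_comp {C : Type u} [CommRing C] [Algebra k C] (φ : A →ₐ[k] B) (ψ : B →ₐ[k] C)
    (V : W4c1limliniiii.LGPoints k d r n f g A) : mapPt ψ (mapPt φ V) = mapPt (ψ.comp φ) V :=
  Subtype.ext (funext fun i => (Grassmannian.map_comp (d - r) φ ψ (V.1 i)).symm)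

/-! ### Tuples with generators at prescribed vertices -/

variable {L : Type u} [Field L] [Algebra k L]

/-- `V` is generated by independent vectors at the vertices `μ` -/
def Good (μ : Fin r → Fin (n + 1)) (V : W4c1limliniiii.LGPoints k d r n f g L) : Prop :=
  ∃ w : Fin r → MA k L d, ∀ i, LinearIndependent L (genVec f g μ w i) ∧
    (V.1 i).toSubmodule = Submodule.span L (Set.range (genVec f g μ w i))

theorem Good.map (hrd : r < d) {μ : Fin r → Fin (n + 1)} {V : W4c1limliniiii.LGPoints k d r n f g L}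
    (hV : Good μ V) {L' : Type u} [Field L'] [Algebra k L'] (φ : L →ₐ[k] L') : Good μ (mapPt φ V) := by
  obtain ⟨w, hw⟩ := hV
  refine ⟨fun α => iota φ (w α), fun i => ?_⟩
  obtain ⟨ε, hε, hdet⟩ := exists_frame (r := r) (by omega) (V.1 i)
  have hmem : ∀ α, genVec f g μ w i α ∈ (V.1 i).toSubmodule := fun α =>
    (hw i).2 ▸ Submodule.subset_span ⟨α, rfl⟩
  have hu : IsUnit (minor ε fun α => iota φ (genVec f g μ w i α)).det := by
    rw [det_minor_iota]
    exact (hdet _ hmem (hw i).1).map φ
  rw [← iota_genVec]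
  exact ⟨linearIndependent_of_unit ε hu, eq_span ε (hε.map φ) (fun α => iota_mem_map φ _ (hmem α)) hu⟩

theorem Good.perm {μ : Fin r → Fin (n + 1)} {V : W4c1limliniiii.LGPoints k d r n f g L}
    (hV : Good μ V) (σ : Equiv.Perm (Fin r)) : Good (μ ∘ σ) V := by
  obtain ⟨w, hw⟩ := hV
  refine ⟨w ∘ σ, fun i => ?_⟩
  have : genVec f g (μ ∘ σ) (w ∘ σ) i = genVec f g μ w i ∘ σ := rfl
  rw [this, σ.surjective.range_comp]
  exact ⟨(hw i).1.comp _ σ.injective, (hw i).2⟩

theorem good_of_halves {V : W4c1limliniiii.LGPoints k d r n f g L}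
    (H : Halves (FA f L) (FA g L) (fun i => (V.1 i).toSubmodule) r) (heq : ∀ α, H.hi α = H.lo α ∧ H.b α = H.a α) :
    Good H.lo V := by
  refine ⟨H.a, fun i => ?_⟩
  have : genVec f g H.lo H.a i = fun α =>
      if i ≤ H.lo α then path (FA f L) (FA g L) (H.lo α) i (H.a α)
      else path (FA f L) (FA g L) (H.hi α) i (H.b α) := by
    funext α
    rw [(heq α).1, (heq α).2, ite_self]
  rw [this]
  exact ⟨H.indep i, (H.span_eq i).symm⟩

/-- the degenerate hypotheses at a field over the base -/
structure Split (f g : Fin n → ((Fin d → k) →ₗ[k] (Fin d → k))) (L : Type u) [Field L] [Algebra k L] : Prop where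
  fg : ∀ i, FA f L i * FA g L i = 0
  gf : ∀ i, FA g L i * FA f L i = 0
  exists_G : ∀ (i : Fin n) (x : MA k L d), FA f L i x = 0 → ∃ y, FA g L i y = x
  exists_F : ∀ (i : Fin n) (x : MA k L d), FA g L i x = 0 → ∃ y, FA f L i y = x
  disjoint : ∀ (i j : Fin n), i.val + 1 = j.val → ∀ x : MA k L d, FA f L j x = 0 → FA g L i x = 0 → x = 0

theorem Split.exists_halves (hrd : r < d) (hS : Split f g L) (V : W4c1limliniiii.LGPoints k d r n f g L) :
    Nonempty (Halves (FA f L) (FA g L) (fun i => (V.1 i).toSubmodule) r) :=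
  Groth.Misc6.LinkedGrass.exists_halves (FA f L) (FA g L) hS.fg hS.gf hS.disjoint _
    (fun i => finrank_eq_of_grassmannian (Nat.sub_add_cancel hrd.le) (V.1 i))
    (fun i => (V.2 i).1) (fun i => (V.2 i).2)

theorem pathA_injective {s : k} (hI : ∀ i, (f i).comp (g i) = s • LinearMap.id ∧ (g i).comp (f i) = s • LinearMap.id)
    (hu : algebraMap k L s ≠ 0) :
    ∀ i, Function.Injective (pathA f g L 0 i : MA k L d → MA k L d) := by
  refine forall_of_step (fun i => Function.Injective (pathA f g L 0 i : MA k L d → MA k L d)) 0 ?_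
    (fun j hj ih => ?_) (fun j hj _ => absurd hj (by simp))
  · rw [pathA, path_self]; exact Function.injective_id
  · rw [pathA, path_succ hj]
    change Function.Injective (⇑(FA f L j) ∘ ⇑(pathA f g L 0 j.castSucc))
    refine Function.Injective.comp ?_ ih
    intro x y hxy
    have e1 := LinearMap.congr_fun (FA_mul (A := L) (fun i => (hI i).2) j) x
    have e2 := LinearMap.congr_fun (FA_mul (A := L) (fun i => (hI i).2) j) y
    rw [Module.End.mul_apply, hxy, ← Module.End.mul_apply] at e1
    exact (smul_right_injective _ hu) (e1.symm.trans e2)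

theorem good_of_ne_zero_aux (hrd : r < d) {s : k}
    (hI : ∀ i, (f i).comp (g i) = s • LinearMap.id ∧ (g i).comp (f i) = s • LinearMap.id)
    (hu : algebraMap k L s ≠ 0) (V : W4c1limliniiii.LGPoints k d r n f g L) :
    Good (fun _ => 0) V := by
  have hdim : ∀ i, Module.finrank L (V.1 i).toSubmodule = r := fun i =>
    finrank_eq_of_grassmannian (Nat.sub_add_cancel hrd.le) (V.1 i)
  haveI : Module.Free L (V.1 0).toSubmodule := Module.Free.of_divisionRing L ↥(V.1 0).toSubmodule
  let b := Module.finBasisOfFinrankEq L (V.1 0).toSubmodule (hdim 0)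
  refine ⟨fun α => (b α).1, fun i => ?_⟩
  have hinj := pathA_injective (L := L) hI hu
  have hind : LinearIndependent L (genVec f g (fun _ => (0 : Fin (n + 1))) (fun α => (b α).1) i) :=
    (b.linearIndependent.map' _ (Submodule.ker_subtype _)).map' _ (LinearMap.ker_eq_bot.2 (hinj i))
  refine ⟨hind, (Submodule.eq_of_le_of_finrank_le (Submodule.span_le.2 ?_) ?_).symm⟩
  · rintro _ ⟨α, rfl⟩
    exact pathA_mem V (b α).2 i
  · rw [finrank_span_eq_card hind, Fintype.card_fin, hdim]

end General

variable {k : Type u} [Field k] {d r n : ℕ}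

/-- the hypotheses of a linked Grassmannian over a field -/
structure Hyp (f g : Fin n → ((Fin d → k) →ₗ[k] (Fin d → k))) (s : k) (r : ℕ) : Prop where
  hrd : r < d
  hI : ∀ i, (f i).comp (g i) = s • LinearMap.id ∧ (g i).comp (f i) = s • LinearMap.id
  hII : ∀ i, d ≤ Module.finrank k (LinearMap.range (f i)) + Module.finrank k (LinearMap.range (g i))
  hIII : ∀ i j : Fin n, i.val + 1 = j.val →
    LinearMap.range (f i) ⊓ LinearMap.ker (f j) = ⊥ ∧ LinearMap.range (g j) ⊓ LinearMap.ker (g i) = ⊥

variable {f g : Fin n → ((Fin d → k) →ₗ[k] (Fin d → k))} {s : k}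

theorem Hyp.ker_eq_range (h : Hyp f g s r) (hs : s = 0) (i : Fin n) :
    LinearMap.ker (f i) = LinearMap.range (g i) ∧ LinearMap.ker (g i) = LinearMap.range (f i) := by
  have h1 : LinearMap.range (g i) ≤ LinearMap.ker (f i) := LinearMap.range_le_ker_iff.2 (by simp [(h.hI i).1, hs])
  have h2 : LinearMap.range (f i) ≤ LinearMap.ker (g i) := LinearMap.range_le_ker_iff.2 (by simp [(h.hI i).2, hs])
  have hd := h.hII i
  have hf := (f i).finrank_range_add_finrank_ker
  have hg := (g i).finrank_range_add_finrank_ker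
  rw [Module.finrank_fin_fun] at hf hg
  exact ⟨(Submodule.eq_of_le_of_finrank_le h1 (by omega)).symm,
    (Submodule.eq_of_le_of_finrank_le h2 (by omega)).symm⟩

variable {A : Type u} [CommRing A] [Algebra k A]

theorem Hyp.exists_G (h : Hyp f g s r) (hs : s = 0) (i : Fin n) (x : MA k A d) (hx : FA f A i x = 0) :
    ∃ y, FA g A i y = x :=
  ((Module.Flat.lTensor_exact A (LinearMap.exact_iff.2 (h.ker_eq_range hs i).1)) x).1 hx

theorem Hyp.exists_F (h : Hyp f g s r) (hs : s = 0) (i : Fin n) (x : MA k A d) (hx : FA g A i x = 0) :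
    ∃ y, FA f A i y = x :=
  ((Module.Flat.lTensor_exact A (LinearMap.exact_iff.2 (h.ker_eq_range hs i).2)) x).1 hx

theorem Hyp.disjoint (h : Hyp f g s r) (hs : s = 0) (i j : Fin n) (hij : i.val + 1 = j.val) (x : MA k A d)
    (hj : FA f A j x = 0) (hi : FA g A i x = 0) : x = 0 := by
  have hker : LinearMap.ker ((f j).prod (g i)) = ⊥ := by
    rw [LinearMap.ker_prod, (h.ker_eq_range hs i).2, inf_comm]
    exact (h.hIII i j hij).1
  obtain ⟨P, hP⟩ := LinearMap.exists_leftInverse_of_injective _ hker
  have hsum : (P.comp (LinearMap.inl k _ _)).comp (f j) + (P.comp (LinearMap.inr k _ _)).comp (g i) = LinearMap.id := by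
    refine LinearMap.ext fun y => ?_
    simp only [LinearMap.add_apply, LinearMap.comp_apply, ← map_add, LinearMap.inl_apply, LinearMap.inr_apply,
      Prod.mk_add_mk, add_zero, zero_add]
    exact LinearMap.congr_fun hP y
  have := LinearMap.congr_fun (congrArg (LinearMap.baseChange A) hsum) x
  simp only [LinearMap.baseChange_id, LinearMap.baseChange_add, LinearMap.baseChange_comp, LinearMap.add_apply,
    LinearMap.comp_apply, LinearMap.id_apply] at this
  rw [hj, hi] at this
  simp only [map_zero, zero_add] at this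
  exact this.symm

theorem Hyp.FA_mul_zero (h : Hyp f g s r) (hs : s = 0) (i : Fin n) :
    FA f A i * FA g A i = 0 ∧ FA g A i * FA f A i = 0 := by
  rw [FA_mul (fun i => (h.hI i).1) i, FA_mul (fun i => (h.hI i).2) i, hs, map_zero, zero_smul]
  exact ⟨rfl, rfl⟩

variable {L : Type u} [Field L] [Algebra k L]

/-- the number of generators up to a link -/
def cnt (μ : Fin r → Fin (n + 1)) (i : Fin n) : ℕ := (Finset.univ.filter fun α => μ α ≤ i.castSucc).card

theorem cnt_perm (μ : Fin r → Fin (n + 1)) (σ : Equiv.Perm (Fin r)) (i : Fin n) :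
    cnt (μ ∘ σ) i = cnt μ i :=
  Finset.card_bij' (fun α _ => σ α) (fun α _ => σ.symm α) (by simp) (by simp) (by simp) (by simp)

theorem eq_of_cnt {μ μ' : Fin r → Fin (n + 1)} (hμ : Monotone μ) (hμ' : Monotone μ')
    (h : ∀ i, cnt μ i = cnt μ' i) : μ = μ' := by
  have key : ∀ ν ν' : Fin r → Fin (n + 1), Monotone ν → Monotone ν' → (∀ i, cnt ν i = cnt ν' i) →
      ∀ α, ¬ ν α < ν' α := by
    intro ν ν' hν hν' hc α hlt
    obtain ⟨i, hi⟩ : ∃ i : Fin n, i.castSucc = ν α :=
      ⟨(ν α).castPred (Fin.ne_last_of_lt hlt), Fin.castSucc_castPred _ _⟩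
    have h1 : (Finset.Iic α).card ≤ cnt ν i :=
      Finset.card_le_card fun β hβ => Finset.mem_filter.2 ⟨Finset.mem_univ _, hi ▸ hν (Finset.mem_Iic.1 hβ)⟩
    have h2 : cnt ν' i ≤ (Finset.Iio α).card := Finset.card_le_card fun β hβ => by
      rw [Finset.mem_Iio]
      by_contra hge
      exact not_lt.2 (((hν' (not_lt.1 hge))).trans ((Finset.mem_filter.1 hβ).2.trans hi.le)) hlt
    rw [Fin.card_Iic] at h1
    rw [Fin.card_Iio] at h2
    have := hc i
    omega
  exact funext fun α => le_antisymm (not_lt.1 (key μ' μ hμ' hμ (fun i => (h i).symm) α))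
    (not_lt.1 (key μ μ' hμ hμ' h α))

/-- the vertex patterns that occur -/
def Adm (s : k) (μ : Fin r → Fin (n + 1)) : Prop := Monotone μ ∧ (s ≠ 0 → ∀ α, μ α = 0)

theorem Good.finrank_map (h : Hyp f g s r) (hs : s = 0) {μ : Fin r → Fin (n + 1)}
    {V : W4c1limliniiii.LGPoints k d r n f g L} (hV : Good μ V) (i : Fin n) :
    Module.finrank L ((V.1 i.castSucc).toSubmodule.map (FA f L i)) = cnt μ i := by
  classical
  obtain ⟨w, hw⟩ := hV
  let v' : {α // μ α ≤ i.castSucc} → MA k L d := fun α => genVec f g μ w i.succ α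
  have hF : ∀ α, FA f L i (genVec f g μ w i.castSucc α) =
      if μ α ≤ i.castSucc then genVec f g μ w i.succ α else 0 := fun α => by
    rw [genVec, pathA, F_path_apply (s := (0 : L)) fun i => by rw [zero_smul]; exact (h.FA_mul_zero hs i).1]
    split_ifs <;> simp
  have : (V.1 i.castSucc).toSubmodule.map (FA f L i) = Submodule.span L (Set.range v') := by
    rw [(hw _).2, Submodule.map_span]
    refine le_antisymm (Submodule.span_le.2 ?_) (Submodule.span_mono ?_)
    · rintro _ ⟨_, ⟨α, rfl⟩, rfl⟩
      rw [SetLike.mem_coe, hF]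
      split_ifs with hα
      · exact Submodule.subset_span ⟨⟨α, hα⟩, rfl⟩
      · exact zero_mem _
    · rintro _ ⟨α, rfl⟩
      exact ⟨_, ⟨α.1, rfl⟩, by rw [hF, if_pos α.2]⟩
  rw [this, show v' = genVec f g μ w i.succ ∘ Subtype.val from rfl]
  rw [finrank_span_eq_card ((hw i.succ).1.comp _ Subtype.val_injective), Fintype.card_subtype, cnt]

theorem Good.unique (h : Hyp f g s r) {μ μ' : Fin r → Fin (n + 1)} (hμ : Adm s μ) (hμ' : Adm s μ')
    {V : W4c1limliniiii.LGPoints k d r n f g L} (hV : Good μ V) (hV' : Good μ' V) : μ = μ' := by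
  by_cases hs : s = 0
  · exact eq_of_cnt hμ.1 hμ'.1 fun i => (hV.finrank_map h hs i).symm.trans (hV'.finrank_map h hs i)
  · exact funext fun α => (hμ.2 hs α).trans (hμ'.2 hs α).symm

theorem Good.isExact (h : Hyp f g s r) {μ : Fin r → Fin (n + 1)}
    {V : W4c1limliniiii.LGPoints k d r n f g L} (hV : Good μ V) : W4c1limliniiii.IsExact k d r n f g L V.1 := by
  classical
  by_cases hs : s = 0
  · obtain ⟨w, hw⟩ := hV
    intro i
    have hF0 : ∀ i, FA f L i * FA g L i = (0 : L) • (1 : Module.End L (MA k L d)) := fun i => by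
      rw [zero_smul]; exact (h.FA_mul_zero hs i).1
    have hG0 : ∀ i, FA g L i * FA f L i = (0 : L) • (1 : Module.End L (MA k L d)) := fun i => by
      rw [zero_smul]; exact (h.FA_mul_zero hs i).2
    constructor
    · intro x hx
      obtain ⟨hxG, hxV⟩ := Submodule.mem_inf.1 hx
      rw [(hw _).2] at hxV
      obtain ⟨c, rfl⟩ := (Submodule.mem_span_range_iff_exists_fun L).1 hxV
      rw [LinearMap.mem_ker, map_sum] at hxG
      simp only [map_smul, genVec, pathA, G_path_apply hG0, smul_smul] at hxG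
      have hc := Fintype.linearIndependent_iff.1 (hw i.castSucc).1 _ hxG
      refine sum_mem fun α _ => ?_
      rcases eq_or_ne (c α) 0 with h0 | h0
      · rw [h0, zero_smul]; exact zero_mem _
      have hle : μ α ≤ i.castSucc := by
        by_contra hlt
        have := hc α
        rw [if_pos (not_le.1 hlt), mul_one] at this
        exact h0 this
      refine Submodule.smul_mem _ _ ⟨genVec f g μ w i.castSucc α, ?_, ?_⟩
      · rw [SetLike.mem_coe, (hw _).2]; exact Submodule.subset_span ⟨α, rfl⟩
      · change FA f L i _ = _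
        rw [genVec, pathA, F_path_apply hF0, if_pos hle, one_smul]
    · intro x hx
      obtain ⟨hxF, hxV⟩ := Submodule.mem_inf.1 hx
      rw [(hw _).2] at hxV
      obtain ⟨c, rfl⟩ := (Submodule.mem_span_range_iff_exists_fun L).1 hxV
      rw [LinearMap.mem_ker, map_sum] at hxF
      simp only [map_smul, genVec, pathA, F_path_apply hF0, smul_smul] at hxF
      have hc := Fintype.linearIndependent_iff.1 (hw i.succ).1 _ hxF
      refine sum_mem fun α _ => ?_
      rcases eq_or_ne (c α) 0 with h0 | h0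
      · rw [h0, zero_smul]; exact zero_mem _
      have hlt : i.castSucc < μ α := by
        by_contra hle
        have := hc α
        rw [if_pos (not_lt.1 hle), mul_one] at this
        exact h0 this
      refine Submodule.smul_mem _ _ ⟨genVec f g μ w i.succ α, ?_, ?_⟩
      · rw [SetLike.mem_coe, (hw _).2]; exact Submodule.subset_span ⟨α, rfl⟩
      · change FA g L i _ = _
        rw [genVec, pathA, G_path_apply hG0, if_pos hlt, one_smul]
  · intro i
    have hu : algebraMap k L s ≠ 0 := by simpa using hs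
    have key : ∀ (u v : Module.End L (MA k L d)), u * v = algebraMap k L s • 1 → ∀ x, v x = 0 → x = 0 := by
      intro u v huv x hx
      have := LinearMap.congr_fun huv x
      rw [Module.End.mul_apply, hx, map_zero] at this
      simp only [LinearMap.smul_apply, Module.End.one_apply] at this
      exact (smul_eq_zero.1 this.symm).resolve_left hu
    constructor
    · intro x hx
      rw [key _ _ (FA_mul (fun i => (h.hI i).1) i) x hx.1]
      exact zero_mem _
    · intro x hx
      rw [key _ _ (FA_mul (fun i => (h.hI i).2) i) x hx.1]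
      exact zero_mem _

theorem Hyp.split (h : Hyp f g s r) (hs : s = 0) (L : Type u) [Field L] [Algebra k L] : Split f g L :=
  ⟨fun i => (h.FA_mul_zero hs i).1, fun i => (h.FA_mul_zero hs i).2, h.exists_G hs, h.exists_F hs, h.disjoint hs⟩

theorem good_of_ne_zero (h : Hyp f g s r) (hs : s ≠ 0) (V : W4c1limliniiii.LGPoints k d r n f g L) :
    Good (fun _ => 0) V :=
  good_of_ne_zero_aux h.hrd h.hI (by simpa using hs) V

theorem exists_halves_of (h : Hyp f g s r) (hs : s = 0) (V : W4c1limliniiii.LGPoints k d r n f g L) :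
    Nonempty (Halves (FA f L) (FA g L) (fun i => (V.1 i).toSubmodule) r) :=
  (h.split hs L).exists_halves h.hrd V

theorem halves_eq_of_isExact (h : Hyp f g s r) (hs : s = 0) {V : W4c1limliniiii.LGPoints k d r n f g L}
    (hV : W4c1limliniiii.IsExact k d r n f g L V.1)
    (H : Halves (FA f L) (FA g L) (fun i => (V.1 i).toSubmodule) r) (α : Fin r) :
    H.hi α = H.lo α ∧ H.b α = H.a α := by
  classical
  refine (H.cases_adj α).resolve_right ?_
  rintro ⟨i, hl, hh, hFa, hGb⟩
  have hmem : H.a α ∈ Submodule.map (FA g L i) (V.1 i.succ).toSubmodule :=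
    (hV i).2 ⟨hFa, by simpa [hl] using H.mem_a α⟩
  rw [← H.span_eq i.succ, Submodule.map_span] at hmem
  have hva : H.vec i.castSucc α = H.a α := by rw [Halves.vec, hl, if_pos le_rfl, path_self]; rfl
  have hsub : Submodule.span L (FA g L i '' Set.range fun β => H.vec i.succ β) ≤
      Submodule.span L ((fun β => H.vec i.castSucc β) '' {α}ᶜ) := by
    rw [Submodule.span_le]
    rintro _ ⟨_, ⟨β, rfl⟩, rfl⟩
    rcases (vec_linked (FA f L) (FA g L) (fun i => (h.FA_mul_zero hs i).1) (fun i => (h.FA_mul_zero hs i).2)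
      H.lo H.hi H.a H.b H.cases_adj i β).2 with h0 | h0
    · exact (show FA g L i (H.vec i.succ β) = 0 from h0) ▸ zero_mem _
    · rcases eq_or_ne β α with rfl | hne
      · have : H.vec i.succ β = H.b β := by
          rw [Halves.vec, hl, hh, if_neg (not_le.2 Fin.castSucc_lt_succ), path_self]; rfl
        rw [SetLike.mem_coe]
        change FA g L i (H.vec i.succ β) ∈ _
        rw [this, hGb]
        exact zero_mem _
      · exact Submodule.subset_span ⟨β, hne, (show FA g L i (H.vec i.succ β) = H.vec i.castSucc β from h0).symm⟩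
  refine (H.indep i.castSucc).notMem_span_image (s := {α}ᶜ) (x := α) (by simp) ?_
  change H.vec i.castSucc α ∈ _
  rw [hva]
  exact hsub hmem

theorem adm_sort {μ : Fin r → Fin (n + 1)} (hs : s = 0) : Adm s (μ ∘ Tuple.sort μ) :=
  ⟨Tuple.monotone_sort μ, fun h => absurd hs h⟩

/-- exact tuples are the ones with generators -/
theorem exists_good_of_isExact (h : Hyp f g s r) {V : W4c1limliniiii.LGPoints k d r n f g L}
    (hV : W4c1limliniiii.IsExact k d r n f g L V.1) : ∃ μ, Adm s μ ∧ Good μ V := by
  by_cases hs : s = 0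
  · obtain ⟨H⟩ := exists_halves_of h hs V
    exact ⟨_, adm_sort hs, (good_of_halves H (halves_eq_of_isExact h hs hV H)).perm _⟩
  · exact ⟨_, ⟨monotone_const, fun _ _ => rfl⟩, good_of_ne_zero h hs V⟩

end Groth.Misc6.LinkedGrass
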