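import Mathlib
import Groth.Agent.Misc6.LinkedGrass.Types

/-!
# Non-exact tuples are limits of exact ones in two ways
-/

set_option autoImplicit false

universe u

open TensorProduct Module
open Groth.GrassRep

noncomputable section

namespace Groth.Misc6.LinkedGrass

section General

variable {k : Type u} [CommRing k] {d r n : ℕ} {f g : Fin n → ((Fin d → k) →ₗ[k] (Fin d → k))} {s : k}
variable {L : Type u} [Field L] [Algebra k L]

/-- `V` is a limit of tuples with generators at `μ` -/
def Specializes (μ : Fin r → Fin (n + 1)) (V : W4c1limliniiii.LGPoints k d r n f g L) : Prop :=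
  ∃ (B : Type u) (_ : CommRing B) (_ : IsDomain B) (_ : Algebra k B)
    (W : W4c1limliniiii.LGPoints k d r n f g B) (φ : B →ₐ[k] L),
    mapPt φ W = V ∧ Good μ (mapPt (IsScalarTower.toAlgHom k B (FractionRing B)) W)

theorem specializes_of_halves (hrd : r < d)
    (hI : ∀ i, (f i).comp (g i) = s • LinearMap.id ∧ (g i).comp (f i) = s • LinearMap.id)
    (hs : algebraMap k L s = 0) {V : W4c1limliniiii.LGPoints k d r n f g L}
    (H : Halves (FA f L) (FA g L) (fun i => (V.1 i).toSubmodule) r) (μ : Fin r → Fin (n + 1))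
    (a' b' : Fin r → MA k (Polynomial L) d)
    (ha : ∀ α, iota ((Polynomial.aeval (0 : L)).restrictScalars k) (a' α) = H.a α)
    (hb : ∀ α, iota ((Polynomial.aeval (0 : L)).restrictScalars k) (b' α) = H.b α)
    (hadj : ∀ α, (H.hi α = H.lo α ∧ b' α = a' α ∧ μ α = H.lo α) ∨
      ∃ i : Fin n, H.lo α = i.castSucc ∧ H.hi α = i.succ ∧
        ((FA f (Polynomial L) i (a' α) = 0 ∧ FA g (Polynomial L) i (b' α) = (Polynomial.X : Polynomial L) • a' α ∧
            μ α = H.hi α) ∨
          (FA g (Polynomial L) i (b' α) = 0 ∧ FA f (Polynomial L) i (a' α) = (Polynomial.X : Polynomial L) • b' α ∧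
            μ α = H.lo α))) :
    Specializes μ V := by
  classical
  let R := Polynomial L
  let ev : R →ₐ[k] L := (Polynomial.aeval (0 : L)).restrictScalars k
  have hsR : algebraMap k R s = 0 := by
    rw [IsScalarTower.algebraMap_apply k L R, hs, map_zero]
  have hFG : ∀ i, FA f R i * FA g R i = (0 : R) • (1 : Module.End R (MA k R d)) := fun i => by
    rw [FA_mul (fun i => (hI i).1) i, hsR]
  have hGF : ∀ i, FA g R i * FA f R i = (0 : R) • (1 : Module.End R (MA k R d)) := fun i => by
    rw [FA_mul (fun i => (hI i).2) i, hsR]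
  let v : Fin (n + 1) → Fin r → MA k R d := fun i α =>
    if i ≤ H.lo α then pathA f g R (H.lo α) i (a' α) else pathA f g R (H.hi α) i (b' α)
  -- specialisation
  have hv0 : ∀ i, (fun α => iota ev (v i α)) = H.vec i := fun i => funext fun α => by
    simp only [v, Halves.vec, apply_ite (iota ev), iota_pathA, ev, ha, hb]
  -- linkedness
  have hlink : ∀ (i : Fin n) (α : Fin r),
      FA f R i (v i.castSucc α) ∈ Submodule.span R (Set.range (v i.succ)) ∧
        FA g R i (v i.succ α) ∈ Submodule.span R (Set.range (v i.castSucc)) := by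
    intro i α
    have hmem : ∀ (j : Fin (n + 1)) (c : R), c • v j α ∈ Submodule.span R (Set.range (v j)) := fun j c =>
      Submodule.smul_mem _ _ (Submodule.subset_span ⟨α, rfl⟩)
    by_cases h1 : i.succ ≤ H.lo α
    · have h2 : i.castSucc < H.lo α := Fin.castSucc_lt_iff_succ_le.2 h1
      constructor
      · rw [show v i.castSucc α = pathA f g R (H.lo α) i.castSucc (a' α) from if_pos h2.le, pathA,
          F_path_apply hFG, if_neg (not_le.2 h2), zero_smul]
        exact zero_mem _
      · rw [show v i.succ α = pathA f g R (H.lo α) i.succ (a' α) from if_pos h1, pathA, G_path_apply hGF,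
          if_pos h2, show path (FA f R) (FA g R) (H.lo α) i.castSucc (a' α) = v i.castSucc α from (if_pos h2.le).symm]
        exact hmem _ _
    have hvs : v i.succ α = pathA f g R (H.hi α) i.succ (b' α) := if_neg h1
    by_cases h2 : i.castSucc ≤ H.lo α
    · have he : H.lo α = i.castSucc := le_antisymm (Fin.le_castSucc_iff.2 (not_le.1 h1)) h2
      have hvc : v i.castSucc α = a' α := by
        simp only [v, if_pos h2]
        rw [pathA, he, path_self]; rfl
      rw [hvc]
      rcases hadj α with ⟨hh, hba, -⟩ | ⟨j, hl, hh, hcase⟩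
      · have hvs' : v i.succ α = FA f R i (a' α) := by
          rw [hvs, hh, hba, pathA, path_succ_apply he.le, he, path_self]; rfl
        rw [hvs', ← Module.End.mul_apply, hGF]
        refine ⟨?_, ?_⟩
        · rw [← hvs']; exact Submodule.subset_span ⟨α, rfl⟩
        · simp
      · obtain rfl := Fin.castSucc_injective _ (hl.symm.trans he)
        have hvs' : v j.succ α = b' α := by rw [hvs, hh, pathA, path_self]; rfl
        rw [hvs']
        rcases hcase with ⟨e1, e2, -⟩ | ⟨e1, e2, -⟩ <;> rw [e1, e2]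
        · exact ⟨zero_mem _, hvc ▸ hmem _ _⟩
        · exact ⟨hvs' ▸ hmem _ _, zero_mem _⟩
    · have h3 : H.hi α ≤ i.castSucc := H.hi_le_of_not_le h2
      constructor
      · rw [show v i.castSucc α = pathA f g R (H.hi α) i.castSucc (b' α) from if_neg h2, pathA,
          F_path_apply hFG, if_pos h3, ← pathA, ← hvs]
        exact hmem _ _
      · rw [hvs, pathA, G_path_apply hGF, if_neg (not_lt.2 h3), zero_smul]
        exact zero_mem _
  -- the frames
  choose ε hεc hεd using fun i => exists_frame (r := r) (Nat.sub_add_cancel hrd.le) (V.1 i)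
  have hmem0 : ∀ i α, H.vec i α ∈ (V.1 i).toSubmodule := fun i α =>
    (H.span_eq i) ▸ Submodule.subset_span ⟨α, rfl⟩
  let Δ : R := ∏ i, (minor (ε i) (v i)).det
  have hΔ : IsUnit (ev Δ) := by
    rw [map_prod]
    refine IsUnit.prod_univ_iff.2 fun i => ?_
    rw [← det_minor_iota, hv0]
    exact hεd i _ (hmem0 i) (H.indep i)
  have hΔ0 : Δ ≠ 0 := fun h0 => by rw [h0, map_zero] at hΔ; exact not_isUnit_zero hΔ
  let Bl := Localization.Away Δ
  haveI : IsDomain Bl := IsLocalization.isDomain_localization (powers_le_nonZeroDivisors_of_noZeroDivisors hΔ0)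
  let loc : R →ₐ[k] Bl := IsScalarTower.toAlgHom k R Bl
  have hu : ∀ i, IsUnit (loc (minor (ε i) (v i)).det) := fun i => by
    have := IsLocalization.Away.algebraMap_isUnit (S := Bl) Δ
    rw [show algebraMap R Bl Δ = ∏ i, loc (minor (ε i) (v i)).det from map_prod _ _ _] at this
    exact IsUnit.prod_univ_iff.1 this i
  obtain ⟨W, hW⟩ := exists_lgPoint (f := f) (g := g) (A := Bl) (ε := ε) (v := fun i α => iota loc (v i α))
    (fun i => by rw [det_minor_iota]; exact hu i)
    (fun i α => by
      rw [← iota_baseChange]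
      have := (hlink i α).1
      obtain ⟨c, hc⟩ := (Submodule.mem_span_range_iff_exists_fun R).1 this
      rw [← hc, map_sum]
      exact Submodule.sum_mem _ fun β _ => by
        rw [iota_smul]; exact Submodule.smul_mem _ _ (Submodule.subset_span ⟨β, rfl⟩))
    (fun i α => by
      rw [← iota_baseChange]
      have := (hlink i α).2
      obtain ⟨c, hc⟩ := (Submodule.mem_span_range_iff_exists_fun R).1 this
      rw [← hc, map_sum]
      exact Submodule.sum_mem _ fun β _ => by
        rw [iota_smul]; exact Submodule.smul_mem _ _ (Submodule.subset_span ⟨β, rfl⟩))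
  let φ₀ : Bl →+* L := IsLocalization.Away.lift (g := ev.toRingHom) Δ hΔ
  have hφ₀ : ∀ c, φ₀ (loc c) = ev c := fun c => IsLocalization.Away.lift_eq Δ hΔ c
  let φ : Bl →ₐ[k] L :=
    { φ₀ with
      commutes' := fun c => by
        show φ₀ (algebraMap k Bl c) = algebraMap k L c
        rw [IsScalarTower.algebraMap_apply k R Bl]
        exact (hφ₀ _).trans (ev.commutes c) }
  have hφ : ∀ z : MA k R d, iota φ (iota loc z) = iota ev z := fun z => by
    rw [← iota_comp, show φ.comp loc = ev from AlgHom.ext hφ₀]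
  refine ⟨Bl, inferInstance, inferInstance, inferInstance, W, φ, Subtype.ext (funext fun i => Grassmannian.ext ?_), ?_⟩
  · refine (eq_span (ε i) ((hW i).1.map φ) (v := H.vec i) (fun α => ?_) ?_).trans (H.span_eq i)
    · rw [← hv0]
      beta_reduce
      rw [← hφ]
      exact iota_mem_map φ _ ((hW i).2 ▸ Submodule.subset_span ⟨α, rfl⟩)
    · exact hεd i _ (hmem0 i) (H.indep i)
  -- the generic tuple
  let K := FractionRing Bl
  let ψ : R →ₐ[k] K := (IsScalarTower.toAlgHom k Bl K).comp loc
  have hψinj : Function.Injective ψ := (IsFractionRing.injective Bl K).comp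
    (IsLocalization.injective Bl (powers_le_nonZeroDivisors_of_noZeroDivisors hΔ0))
  have hX : ψ Polynomial.X ≠ 0 := (map_ne_zero_iff _ hψinj).2 Polynomial.X_ne_zero
  refine ⟨fun α => iota ψ (if μ α ≤ H.lo α then a' α else b' α), fun i => ?_⟩
  have hrel : ∀ α, ∃ c : K, c ≠ 0 ∧
      genVec f g μ (fun α => iota ψ (if μ α ≤ H.lo α then a' α else b' α)) i α = c • iota ψ (v i α) := by
    intro α
    rcases hadj α with ⟨hh, hba, hμ⟩ | ⟨j, hl, hh, hcase⟩
    · refine ⟨1, one_ne_zero, ?_⟩
      rw [one_smul, genVec, if_pos hμ.le, hμ, ← iota_pathA]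
      simp only [v, hh, hba, ite_self]
    rcases hcase with ⟨-, e2, hμ⟩ | ⟨-, e2, hμ⟩
    · have hnle : ¬ μ α ≤ H.lo α := by rw [hμ, hh, hl]; exact not_le.2 Fin.castSucc_lt_succ
      rw [genVec, if_neg hnle, hμ, ← iota_pathA]
      by_cases hi : i ≤ H.lo α
      · refine ⟨ψ Polynomial.X, hX, ?_⟩
        rw [← iota_smul (f := ψ), show v i α = pathA f g R (H.lo α) i (a' α) from if_pos hi]
        congr 1
        refine forall_of_step (fun i => i ≤ H.lo α → pathA f g R (H.hi α) i (b' α) =
          (Polynomial.X : R) • pathA f g R (H.lo α) i (a' α)) (H.lo α) (fun _ => ?_)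
          (fun p hp _ h' => absurd h' (not_le.2 (hp.trans_lt Fin.castSucc_lt_succ))) (fun p hp ih _ => ?_) i hi
        · rw [hl, hh, pathA, pathA, path_castSucc_apply Fin.castSucc_lt_succ, path_self, path_self]
          exact e2
        · rw [pathA, pathA, path_castSucc_apply hp, path_castSucc_apply (hp.trans (by
            rw [hl, hh]; exact Fin.castSucc_lt_succ))]
          rw [show path (FA f R) (FA g R) (H.hi α) p.succ (b' α) = _ from ih (Fin.castSucc_lt_iff_succ_le.1 hp), map_smul]
      · exact ⟨1, one_ne_zero, by rw [one_smul, show v i α = pathA f g R (H.hi α) i (b' α) from if_neg hi]⟩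
    · rw [genVec, if_pos hμ.le, hμ, ← iota_pathA]
      by_cases hi : i ≤ H.lo α
      · exact ⟨1, one_ne_zero, by rw [one_smul, show v i α = pathA f g R (H.lo α) i (a' α) from if_pos hi]⟩
      · refine ⟨ψ Polynomial.X, hX, ?_⟩
        rw [← iota_smul (f := ψ), show v i α = pathA f g R (H.hi α) i (b' α) from if_neg hi]
        congr 1
        refine forall_of_step (fun i => H.hi α ≤ i → pathA f g R (H.lo α) i (a' α) =
          (Polynomial.X : R) • pathA f g R (H.hi α) i (b' α)) (H.hi α) (fun _ => ?_)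
          (fun p hp ih _ => ?_) (fun p hp _ h' => absurd h' (not_le.2 hp)) i (H.hi_le_of_not_le hi)
        · rw [hl, hh, pathA, pathA, path_succ_apply le_rfl, path_self, path_self]
          exact e2
        · rw [pathA, pathA, path_succ_apply hp, path_succ_apply ((le_of_lt (by
            rw [hl, hh]; exact Fin.castSucc_lt_succ)).trans hp)]
          rw [show path (FA f R) (FA g R) (H.lo α) p.castSucc (a' α) = _ from ih hp, map_smul]
  choose c hc0 hc using hrel
  have hind : LinearIndependent K fun α => iota ψ (v i α) := by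
    refine linearIndependent_of_unit (ε i) ?_
    rw [det_minor_iota]
    exact (hu i).map (IsScalarTower.toAlgHom k Bl K)
  rw [show genVec f g μ (fun α => iota ψ (if μ α ≤ H.lo α then a' α else b' α)) i =
    (fun α => Units.mk0 (c α) (hc0 α)) • fun α => iota ψ (v i α) from funext fun α => hc α]
  refine ⟨hind.units_smul _, ?_⟩
  rw [show ((mapPt (IsScalarTower.toAlgHom k Bl K) W).1 i).toSubmodule =
      Submodule.span K (Set.range fun α => iota ψ (v i α)) from
    eq_span (ε i) ((hW i).1.map _) (fun α => by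
      rw [iota_comp]
      exact iota_mem_map _ _ ((hW i).2 ▸ Submodule.subset_span ⟨α, rfl⟩))
      (by rw [det_minor_iota]; exact (hu i).map (IsScalarTower.toAlgHom k Bl K))]
  refine le_antisymm (Submodule.span_le.2 ?_) (Submodule.span_le.2 ?_)
  · rintro _ ⟨α, rfl⟩
    have : iota ψ (v i α) = (c α)⁻¹ • ((fun α => Units.mk0 (c α) (hc0 α)) • fun α => iota ψ (v i α)) α := by
      change _ = (c α)⁻¹ • (c α • iota ψ (v i α))
      rw [smul_smul, inv_mul_cancel₀ (hc0 α), one_smul]
    rw [SetLike.mem_coe]; beta_reduce; rw [this]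
    exact Submodule.smul_mem _ _ (Submodule.subset_span ⟨α, rfl⟩)
  · rintro _ ⟨α, rfl⟩
    exact Submodule.smul_mem _ _ (Submodule.subset_span ⟨α, rfl⟩)

theorem Specializes.perm {μ : Fin r → Fin (n + 1)} {V : W4c1limliniiii.LGPoints k d r n f g L}
    (hV : Specializes μ V) (σ : Equiv.Perm (Fin r)) : Specializes (μ ∘ σ) V := by
  obtain ⟨B, _, _, _, W, φ, hφ, hgood⟩ := hV
  exact ⟨B, inferInstance, inferInstance, inferInstance, W, φ, hφ, hgood.perm σ⟩

/-- a tuple is a limit along either family of vertices of its halves -/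
theorem specializes_hi_lo (hrd : r < d)
    (hI : ∀ i, (f i).comp (g i) = s • LinearMap.id ∧ (g i).comp (f i) = s • LinearMap.id)
    (hs : algebraMap k L s = 0) (hS : Split f g L) {V : W4c1limliniiii.LGPoints k d r n f g L}
    (H : Halves (FA f L) (FA g L) (fun i => (V.1 i).toSubmodule) r) :
    Specializes H.hi V ∧ Specializes H.lo V := by
  classical
  have hpre : ∀ α, ∃ u u' : MA k L d, (H.hi α = H.lo α ∧ H.b α = H.a α ∧ u = 0 ∧ u' = 0) ∨
      ∃ i : Fin n, H.lo α = i.castSucc ∧ H.hi α = i.succ ∧ FA f L i (H.a α) = 0 ∧ FA g L i (H.b α) = 0 ∧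
        FA g L i u = H.a α ∧ FA f L i u' = H.b α := by
    intro α
    rcases H.cases_adj α with ⟨hh, hb⟩ | ⟨i, hl, hh, hFa, hGb⟩
    · exact ⟨0, 0, Or.inl ⟨hh, hb, rfl, rfl⟩⟩
    · obtain ⟨u, hu⟩ := hS.exists_G i _ hFa
      obtain ⟨u', hu'⟩ := hS.exists_F i _ hGb
      exact ⟨u, u', Or.inr ⟨i, hl, hh, hFa, hGb, hu, hu'⟩⟩
  choose u u' hu using hpre
  let C : L →ₐ[k] Polynomial L := IsScalarTower.toAlgHom k L (Polynomial L)
  let ev : Polynomial L →ₐ[k] L := (Polynomial.aeval (0 : L)).restrictScalars k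
  have hevC : ∀ z : MA k L d, iota ev (iota C z) = z := fun z => by
    rw [← iota_comp, show ev.comp C = AlgHom.id k L from AlgHom.ext fun c => by simp [ev, C], iota_id]
  have hevX : ∀ z : MA k (Polynomial L) d, iota ev ((Polynomial.X : Polynomial L) • z) = 0 := fun z => by
    rw [iota_smul]; simp [ev]
  constructor
  · refine specializes_of_halves hrd hI hs H _ (fun α => iota C (H.a α))
      (fun α => iota C (H.b α) + (Polynomial.X : Polynomial L) • iota C (u α)) (fun α => hevC _)
      (fun α => by rw [map_add, hevC, hevX, add_zero]) fun α => ?_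
    rcases hu α with ⟨hh, hb, hu0, -⟩ | ⟨i, hl, hh, hFa, hGb, hGu, -⟩
    · exact Or.inl ⟨hh, by rw [hb, hu0, map_zero, smul_zero, add_zero], hh⟩
    · refine Or.inr ⟨i, hl, hh, Or.inl ⟨?_, ?_, rfl⟩⟩
      · rw [← iota_baseChange, hFa, map_zero]
      · rw [map_add, map_smul, ← iota_baseChange, ← iota_baseChange, hGb, map_zero, zero_add, hGu]
  · refine specializes_of_halves hrd hI hs H _
      (fun α => iota C (H.a α) + (Polynomial.X : Polynomial L) • iota C (u' α)) (fun α => iota C (H.b α))
      (fun α => by rw [map_add, hevC, hevX, add_zero]) (fun α => hevC _) fun α => ?_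
    rcases hu α with ⟨hh, hb, -, hu0⟩ | ⟨i, hl, hh, hFa, hGb, -, hFu⟩
    · exact Or.inl ⟨hh, by rw [hb, hu0, map_zero, smul_zero, add_zero], rfl⟩
    · refine Or.inr ⟨i, hl, hh, Or.inr ⟨?_, ?_, rfl⟩⟩
      · rw [← iota_baseChange, hGb, map_zero]
      · rw [map_add, map_smul, ← iota_baseChange, ← iota_baseChange, hFa, map_zero, zero_add, hFu]


end General

variable {k : Type u} [Field k] {d r n : ℕ} {f g : Fin n → ((Fin d → k) →ₗ[k] (Fin d → k))} {s : k}
variable {L : Type u} [Field L] [Algebra k L]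

/-- the two degenerations of a non-exact tuple -/
theorem exists_two_specializes (h : Hyp f g s r) {V : W4c1limliniiii.LGPoints k d r n f g L}
    (hV : ¬ W4c1limliniiii.IsExact k d r n f g L V.1) :
    ∃ μ μ' : Fin r → Fin (n + 1), μ ≠ μ' ∧ Adm s μ ∧ Adm s μ' ∧ Specializes μ V ∧ Specializes μ' V := by
  classical
  have hs : s = 0 := by
    by_contra hs
    exact hV ((good_of_ne_zero h hs V).isExact h)
  obtain ⟨H⟩ := exists_halves_of h hs V
  obtain ⟨α₀, hα₀⟩ : ∃ α, ¬ (H.hi α = H.lo α ∧ H.b α = H.a α) := by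
    by_contra hno
    push Not at hno
    exact hV ((good_of_halves H hno).isExact h)
  have hsp := specializes_hi_lo h.hrd h.hI (show algebraMap k L s = 0 by rw [hs, map_zero]) (h.split hs L) H
  refine ⟨H.hi ∘ Tuple.sort H.hi, H.lo ∘ Tuple.sort H.lo, ?_, adm_sort hs, adm_sort hs, hsp.1.perm _, hsp.2.perm _⟩
  intro he
  obtain ⟨i, hl, hh, -, -⟩ := (H.cases_adj α₀).resolve_left hα₀
  have hc : cnt H.hi i = cnt H.lo i := by
    rw [← cnt_perm H.hi (Tuple.sort H.hi), he, cnt_perm]
  refine hc.not_lt (Finset.card_lt_card ?_)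
  rw [Finset.ssubset_iff_of_subset]
  · exact ⟨α₀, by simp [hl], by simp [hh]⟩
  · intro α hα
    simp only [Finset.mem_filter, Finset.mem_univ, true_and] at hα ⊢
    rcases H.cases_adj α with ⟨h', -⟩ | ⟨j, hl', hh', -, -⟩
    · rwa [← h']
    · exact (by rw [hl', hh']; exact Fin.castSucc_lt_succ.le : H.lo α ≤ H.hi α).trans hα

end Groth.Misc6.LinkedGrass
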