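import Mathlib
import Groth.Agent.Misc6.LinkedGrass.Degeneration

/-!
# Charts at exact tuples

Near an exact tuple every linked tuple is spanned by the paths of generators with normalised
coordinates, so the chart is an open piece of affine space.
-/

set_option autoImplicit false

universe u

open TensorProduct Module
open Groth.GrassRep

noncomputable section

namespace Groth.Misc6.LinkedGrass

variable {k : Type u} [Field k] {d r n : ℕ} {f g : Fin n → ((Fin d → k) →ₗ[k] (Fin d → k))} {s : k}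
variable {A B : Type u} [CommRing A] [Algebra k A] [CommRing B] [Algebra k B]

/-- data of a chart -/
structure Datum (d r n : ℕ) where
  /-- the vertices of the generators -/
  μ : Fin r → Fin (n + 1)
  /-- the frames -/
  ε : Fin (n + 1) → (Fin (d - r) ⊕ Fin r ≃ Fin d)
  /-- the normalised coordinate of each generator -/
  j : Fin r → Fin r

/-- normalised generators -/
def Normal (δ : Datum d r n) (w : Fin r → MA k A d) : Prop :=
  ∀ α l, co k A d (w α) (δ.ε (δ.μ α) (Sum.inr l)) = if l = δ.j α then 1 else 0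

/-- a tuple in the chart of `δ` -/
def InGood (δ : Datum d r n) (V : W4c1limliniiii.LGPoints k d r n f g A) : Prop :=
  (∀ i, InChart (xτ (δ.ε i) k) (V.1 i)) ∧ ∃ w : Fin r → MA k A d, Normal δ w ∧
    (∀ α, w α ∈ (V.1 (δ.μ α)).toSubmodule) ∧ ∀ i, IsUnit (minor (δ.ε i) (genVec f g δ.μ w i)).det

theorem Normal.map {δ : Datum d r n} {w : Fin r → MA k A d} (hw : Normal δ w) (φ : A →ₐ[k] B) :
    Normal δ fun α => iota φ (w α) := fun α l => by
  rw [co_iota, hw α l]
  split_ifs <;> simp

theorem normal_unique {δ : Datum d r n} {V : W4c1limliniiii.LGPoints k d r n f g A}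
    (hc : ∀ i, InChart (xτ (δ.ε i) k) (V.1 i)) {w w' : Fin r → MA k A d} (hw : Normal δ w) (hw' : Normal δ w')
    (hm : ∀ α, w α ∈ (V.1 (δ.μ α)).toSubmodule) (hm' : ∀ α, w' α ∈ (V.1 (δ.μ α)).toSubmodule) : w = w' :=
  funext fun α => sub_eq_zero.1 (eq_zero_of_mem _ (hc _) (sub_mem (hm α) (hm' α)) fun l => by
    rw [map_sub, Pi.sub_apply, hw α l, hw' α l, sub_self])

theorem exists_normal {δ : Datum d r n} {V : W4c1limliniiii.LGPoints k d r n f g A}
    (hc : ∀ i, InChart (xτ (δ.ε i) k) (V.1 i)) :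
    ∃ w : Fin r → MA k A d, Normal δ w ∧ ∀ α, w α ∈ (V.1 (δ.μ α)).toSubmodule := by
  refine ⟨fun α => (1 : A) ⊗ₜ[k] (Pi.single (δ.ε (δ.μ α) (Sum.inr (δ.j α))) 1 : Fin d → k) -
    ∑ l, coef (hc (δ.μ α)) (Pi.single (δ.ε (δ.μ α) (Sum.inr (δ.j α))) 1) l •
      ((1 : A) ⊗ₜ[k] xτ (δ.ε (δ.μ α)) k l), fun α l => ?_, fun α => ?_⟩
  · simp [xτ, xs, co_single, Pi.single_apply]
  · have h := sel_coef (hc (δ.μ α)) (Pi.single (δ.ε (δ.μ α) (Sum.inr (δ.j α))) 1)
    rw [sel_apply] at h
    rw [← Submodule.Quotient.mk_eq_zero, ← Submodule.mkQ_apply, map_sub, h, sub_self]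

theorem InGood.map {δ : Datum d r n} {V : W4c1limliniiii.LGPoints k d r n f g A} (hV : InGood δ V)
    (φ : A →ₐ[k] B) : InGood δ (mapPt φ V) := by
  obtain ⟨hc, w, hw, hm, hu⟩ := hV
  refine ⟨fun i => (hc i).map φ, _, hw.map φ, fun α => iota_mem_map φ _ (hm α), fun i => ?_⟩
  rw [← iota_genVec, det_minor_iota]
  exact (hu i).map φ

theorem InGood.span_eq {δ : Datum d r n} {V : W4c1limliniiii.LGPoints k d r n f g A}
    (hc : ∀ i, InChart (xτ (δ.ε i) k) (V.1 i)) {w : Fin r → MA k A d}
    (hm : ∀ α, w α ∈ (V.1 (δ.μ α)).toSubmodule)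
    (hu : ∀ i, IsUnit (minor (δ.ε i) (genVec f g δ.μ w i)).det) (i : Fin (n + 1)) :
    (V.1 i).toSubmodule = Submodule.span A (Set.range (genVec f g δ.μ w i)) :=
  eq_span _ (hc i) (fun α => pathA_mem V (hm α) i) (hu i)

variable {K L : Type u} [Field K] [Algebra k K] [Field L] [Algebra k L]

theorem InGood.good {δ : Datum d r n} {V : W4c1limliniiii.LGPoints k d r n f g L} (hV : InGood δ V) :
    Good δ.μ V := by
  obtain ⟨hc, w, -, hm, hu⟩ := hV
  exact ⟨w, fun i => ⟨linearIndependent_of_unit _ (hu i), InGood.span_eq hc hm hu i⟩⟩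

theorem InGood.descend {δ : Datum d r n} {V : W4c1limliniiii.LGPoints k d r n f g K} (φ : K →ₐ[k] L)
    (hV : InGood δ (mapPt φ V)) : InGood δ V := by
  obtain ⟨hc', w', hw', hm', hu'⟩ := hV
  have hc : ∀ i, InChart (xτ (δ.ε i) k) (V.1 i) := fun i => inChart_of_map φ (hc' i)
  obtain ⟨w, hw, hm⟩ := exists_normal hc
  refine ⟨hc, w, hw, hm, fun i => ?_⟩
  rw [normal_unique hc' hw' (hw.map φ) hm' (fun α => iota_mem_map φ _ (hm α))] at hu'
  have := hu' i
  rw [← iota_genVec, det_minor_iota, isUnit_iff_ne_zero] at this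
  exact isUnit_iff_ne_zero.2 fun h0 => this (by rw [h0, map_zero])

/-- Exact tuples over a field lie in a chart. -/
theorem exists_inGood (h : Hyp f g s r) {μ : Fin r → Fin (n + 1)} (hμ : Adm s μ)
    {V : W4c1limliniiii.LGPoints k d r n f g L} (hV : Good μ V) :
    ∃ δ : Datum d r n, δ.μ = μ ∧ InGood δ V := by
  classical
  obtain ⟨w, hw⟩ := hV
  choose ε hεc hεd using fun i => exists_frame (r := r) (Nat.sub_add_cancel h.hrd.le) (V.1 i)
  have hmem : ∀ i α, genVec f g μ w i α ∈ (V.1 i).toSubmodule := fun i α =>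
    (hw i).2 ▸ Submodule.subset_span ⟨α, rfl⟩
  have hunit : ∀ i, IsUnit (minor (ε i) (genVec f g μ w i)).det := fun i => hεd i _ (hmem i) (hw i).1
  -- projected vectors and a choice of coordinate vectors
  let P : Fin (n + 1) → Fin r → (Fin r → L) := fun m => minor (ε m) (genVec f g μ w m)
  have hPtop : ∀ m, Submodule.span L (Set.range (P m)) = ⊤ := fun m =>
    ((Matrix.linearIndependent_rows_iff_isUnit).2 ((Matrix.isUnit_iff_isUnit_det _).2 (hunit m))).span_eq_top_of_card_eq_finrank'
      (by simp)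
  have hchoice : ∀ m, ∃ j : {α // μ α = m} → Fin r,
      Submodule.span L (P m '' {α | μ α ≠ m} ∪ Set.range fun α => (Pi.single (j α) 1 : Fin r → L)) = ⊤ := by
    intro m
    let U := Submodule.span L (P m '' {α | μ α ≠ m})
    obtain ⟨b, hbs, hbspan, hbli⟩ := exists_linearIndependent L
      (U.mkQ '' Set.range fun l : Fin r => (Pi.single l 1 : Fin r → L))
    have htop : Submodule.span L b = ⊤ := by
      rw [hbspan, Submodule.span_image, show Submodule.span L (Set.range fun l : Fin r => (Pi.single l 1 : Fin r → L)) = ⊤ by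
        simpa [← Pi.basisFun_apply] using (Pi.basisFun L (Fin r)).span_eq, Submodule.map_top, Submodule.range_mkQ]
    let Bb : Module.Basis b L _ := Module.Basis.mk hbli (by simp [htop])
    haveI : Fintype b := FiniteDimensional.fintypeBasisIndex Bb
    have hcard : Fintype.card b = Fintype.card {α // μ α = m} := by
      rw [← Module.finrank_eq_card_basis Bb]
      have hU : Module.finrank L U = Fintype.card {α // μ α ≠ m} := by
        have hP : LinearIndependent L (P m) :=
          (Matrix.linearIndependent_rows_iff_isUnit).2 ((Matrix.isUnit_iff_isUnit_det _).2 (hunit m))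
        rw [show U = Submodule.span L (Set.range (P m ∘ ((↑) : {α // μ α ≠ m} → Fin r))) by
          rw [Set.range_comp, Subtype.range_coe_subtype]]
        exact finrank_span_eq_card (hP.comp _ Subtype.val_injective)
      have h1 := U.finrank_quotient_add_finrank
      rw [Module.finrank_fin_fun, hU, Fintype.card_subtype_compl, Fintype.card_fin] at h1
      have h2 := Fintype.card_subtype_le fun α => μ α = m
      rw [Fintype.card_fin] at h2
      omega
    let e : {α // μ α = m} ≃ b := (Fintype.equivOfCardEq hcard).symm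
    choose l hl hlq using fun y : b => hbs y.2
    choose j hj using hl
    refine ⟨fun α => j (e α), ?_⟩
    have hmap : (Submodule.span L (P m '' {α | μ α ≠ m} ∪
        Set.range fun α => (Pi.single (j (e α)) 1 : Fin r → L))).map U.mkQ = ⊤ := by
      rw [eq_top_iff, ← htop, Submodule.span_le]
      intro y hy
      refine ⟨Pi.single (j ⟨y, hy⟩) 1, Submodule.subset_span (Or.inr ⟨e.symm ⟨y, hy⟩, by simp⟩), ?_⟩
      rw [show (Pi.single (j ⟨y, hy⟩) 1 : Fin r → L) = l ⟨y, hy⟩ from hj _]
      exact hlq ⟨y, hy⟩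
    rw [Submodule.map_mkQ_eq_top, sup_eq_right.2 (Submodule.span_mono Set.subset_union_left)] at hmap
    exact hmap
  choose j hj using hchoice
  let δ : Datum d r n := ⟨μ, ε, fun α => j (μ α) ⟨α, rfl⟩⟩
  have hc : ∀ i, InChart (xτ (δ.ε i) k) (V.1 i) := hεc
  obtain ⟨z, hz, hzm⟩ := exists_normal (δ := δ) (V := V) hc
  refine ⟨δ, rfl, hc, z, hz, hzm, fun i => hεd i _ (fun α => pathA_mem V (hzm α) i) ?_⟩
  -- the new generators generate
  let S : Fin (n + 1) → Submodule L (MA k L d) := fun i => Submodule.span L (Set.range (genVec f g μ z i))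
  have hSV : ∀ i, S i ≤ (V.1 i).toSubmodule := fun i => Submodule.span_le.2 (by
    rintro _ ⟨α, rfl⟩; exact pathA_mem V (hzm α) i)
  have hvert : ∀ m, (V.1 m).toSubmodule ≤ Submodule.span L (z '' {α | μ α = m}) ⊔
      Submodule.span L (genVec f g μ w m '' {α | μ α ≠ m}) := by
    intro m x hx
    let π : MA k L d →ₗ[L] (Fin r → L) :=
      (LinearMap.funLeft L L fun l => ε m (Sum.inr l)).comp (co k L d).toLinearMap
    have hmem' : π x ∈ (Submodule.span L (z '' {α | μ α = m}) ⊔
        Submodule.span L (genVec f g μ w m '' {α | μ α ≠ m})).map π := by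
      rw [Submodule.map_sup, Submodule.map_span, Submodule.map_span, ← Submodule.span_union,
        show π x ∈ Submodule.span L _ ↔ _ from Iff.rfl]
      refine (?_ : (⊤ : Submodule L (Fin r → L)) ≤ _) Submodule.mem_top
      rw [← hj m]
      refine Submodule.span_mono ?_
      rintro _ (⟨α, hα, rfl⟩ | ⟨α, rfl⟩)
      · exact Or.inr ⟨genVec f g μ w m α, ⟨α, hα, rfl⟩, rfl⟩
      · refine Or.inl ⟨z α.1, ⟨α.1, α.2, rfl⟩, funext fun l => ?_⟩
        obtain ⟨α, rfl⟩ := α
        change co k L d (z α) (ε (μ α) (Sum.inr l)) = _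
        rw [hz α l]
        simp [δ, Pi.single_apply]
    obtain ⟨y, hy, hyx⟩ := hmem'
    have hyV : y ∈ (V.1 m).toSubmodule := by
      refine (sup_le (Submodule.span_le.2 ?_) (Submodule.span_le.2 ?_) : _ ≤ (V.1 m).toSubmodule) hy
      · rintro _ ⟨α, hα, rfl⟩
        exact (show μ α = m from hα) ▸ hzm α
      · rintro _ ⟨α, -, rfl⟩
        exact hmem m α
    have : x - y = 0 := eq_zero_of_mem (ε m) (hεc m) (sub_mem hx hyV) fun l => by
      rw [map_sub, Pi.sub_apply, sub_eq_zero]
      exact (congrFun hyx l).symm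
    rw [sub_eq_zero.1 this]
    exact hy
  have hzS : ∀ m, Submodule.span L (z '' {α | μ α = m}) ≤ S m := fun m => Submodule.span_le.2 (by
    rintro _ ⟨α, hα, rfl⟩
    exact Submodule.subset_span ⟨α, by rw [genVec, show μ α = m from hα, pathA, path_self]; rfl⟩)
  suffices hS : ∀ i, S i = (V.1 i).toSubmodule by
    exact linearIndependent_of_top_le_span_of_card_eq_finrank_aux (hS i)
      (finrank_eq_of_grassmannian (Nat.sub_add_cancel h.hrd.le) (V.1 i))
  by_cases hs : s = 0
  · refine congrFun (eq_of_generate (FA f L) (FA g L) (fun i => (h.FA_mul_zero hs i).1)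
      (fun i => (h.FA_mul_zero hs i).2) _ S hSV (fun i => ?_) (fun i => ?_) fun m x hx => ?_)
    · rw [Submodule.map_span, Submodule.span_le]
      rintro _ ⟨_, ⟨α, rfl⟩, rfl⟩
      exact (genVec_linked h.hI μ z i α).1
    · rw [Submodule.map_span, Submodule.span_le]
      rintro _ ⟨_, ⟨α, rfl⟩, rfl⟩
      exact (genVec_linked h.hI μ z i α).2
    refine (sup_le_sup (hzS m) (Submodule.span_le.2 ?_)) (hvert m hx)
    rintro _ ⟨α, hα, rfl⟩
    rcases lt_or_gt_of_ne (show μ α ≠ m from hα) with hlt | hlt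
    · obtain ⟨p, rfl⟩ : ∃ p : Fin n, p.succ = m :=
        ⟨m.pred (Fin.pos_iff_ne_zero.1 (lt_of_le_of_lt (Fin.zero_le _) hlt)), Fin.succ_pred _ _⟩
      refine Submodule.mem_sup_left (Submodule.mem_iSup_of_mem p (Submodule.mem_iSup_of_mem rfl ?_))
      exact ⟨_, hmem p.castSucc α, (path_succ_apply (Fin.le_castSucc_iff.2 hlt) _).symm⟩
    · obtain ⟨p, rfl⟩ : ∃ p : Fin n, p.castSucc = m :=
        ⟨m.castPred (Fin.ne_last_of_lt hlt), Fin.castSucc_castPred _ _⟩
      refine Submodule.mem_sup_right (Submodule.mem_iSup_of_mem p (Submodule.mem_iSup_of_mem rfl ?_))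
      exact ⟨_, hmem p.succ α, (path_castSucc_apply hlt _).symm⟩
  · intro i
    refine le_antisymm (hSV i) ?_
    rw [(hw i).2, Submodule.span_le]
    rintro _ ⟨α, rfl⟩
    have h0 := hvert 0 (hmem 0 α)
    have hempty : {β | μ β ≠ 0} = (∅ : Set (Fin r)) := Set.eq_empty_of_forall_notMem fun β hβ => hβ (hμ.2 hs β)
    rw [hempty, Set.image_empty, Submodule.span_empty, sup_bot_eq] at h0
    have hstep : genVec f g μ w i α = pathA f g L 0 i (genVec f g μ w 0 α) := by
      simp [genVec, hμ.2 hs α, pathA]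
    rw [hstep]
    have hmap : (Submodule.span L (z '' {α | μ α = 0})).map (pathA f g L 0 i) ≤ S i := by
      rw [Submodule.map_span, Submodule.span_le]
      rintro _ ⟨_, ⟨β, hβ, rfl⟩, rfl⟩
      exact Submodule.subset_span ⟨β, by rw [genVec, show μ β = 0 from hβ]⟩
    exact hmap ⟨_, h0, rfl⟩

theorem Good.descend (h : Hyp f g s r) {μ : Fin r → Fin (n + 1)} (hμ : Adm s μ)
    {V : W4c1limliniiii.LGPoints k d r n f g K} (φ : K →ₐ[k] L) (hV : Good μ (mapPt φ V)) : Good μ V := by
  obtain ⟨δ, rfl, hδ⟩ := exists_inGood h hμ hV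
  exact (hδ.descend φ).good

/-! ### Locality -/

section Locality

variable {M : Type u} [AddCommGroup M] [Module k M] {q : ℕ}

theorem notMem_support_coker (N : Grassmannian A (A ⊗[k] M) q) (x : Fin q → M) (p : PrimeSpectrum A)
    (hx : InChart x (Grassmannian.map (IsScalarTower.toAlgHom k A p.asIdeal.ResidueField) N)) :
    p ∉ Module.support A (((A ⊗[k] M) ⧸ N.toSubmodule) ⧸ LinearMap.range (sel x N)) := by
  classical
  let K := p.asIdeal.ResidueField
  let f₀ : A →ₐ[k] K := IsScalarTower.toAlgHom k A K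
  let C := ((A ⊗[k] M) ⧸ N.toSubmodule) ⧸ LinearMap.range (sel x N)
  let θ : K ⊗[k] M →ₗ[K] K ⊗[A] C :=
    ((LinearMap.range (sel x N)).mkQ.baseChange K).comp (Grassmannian.baseChangeMkQ K N.toSubmodule)
  have hθs : Function.Surjective θ :=
    (LinearMap.baseChange_surjective K (Submodule.mkQ_surjective _)).comp
      (Grassmannian.baseChangeMkQ_surjective _)
  have hθι : ∀ z, θ (iota f₀ z) =
      (1 : K) ⊗ₜ[A] (LinearMap.range (sel x N)).mkQ (N.toSubmodule.mkQ z) := fun z => by
    simp only [θ, f₀, LinearMap.comp_apply, baseChangeMkQ_iota, LinearMap.baseChange_tmul]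
  have hθx : ∀ i, θ ((1 : K) ⊗ₜ[k] x i) = 0 := fun i => by
    rw [show (1 : K) ⊗ₜ[k] x i = iota f₀ ((1 : A) ⊗ₜ[k] x i) by simp [f₀], hθι,
      show (LinearMap.range (sel x N)).mkQ (N.toSubmodule.mkQ ((1 : A) ⊗ₜ[k] x i)) = 0 from
        (Submodule.Quotient.mk_eq_zero _).mpr
          ⟨Pi.single i 1, by rw [sel_apply]; simp [Pi.single_apply, ite_smul]⟩,
      TensorProduct.tmul_zero]
  have hker : (Grassmannian.map f₀ N).toSubmodule ≤ LinearMap.ker θ := by
    rw [map_eq_span, Submodule.span_le]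
    rintro _ ⟨z, hz, rfl⟩
    rw [SetLike.mem_coe, LinearMap.mem_ker, hθι, Submodule.mkQ_apply (p := N.toSubmodule),
      (Submodule.Quotient.mk_eq_zero _).mpr hz, map_zero, TensorProduct.tmul_zero]
  have hθ0 : ∀ w, θ w = 0 := by
    intro w
    obtain ⟨c, hc⟩ := hx ((Grassmannian.map f₀ N).toSubmodule.mkQ w)
    rw [sel_apply, Submodule.mkQ_apply, Submodule.mkQ_apply, Submodule.Quotient.eq] at hc
    have := LinearMap.mem_ker.mp (hker hc)
    simpa [map_sub, map_sum, hθx] using this
  have hsub : Subsingleton (K ⊗[A] C) := subsingleton_of_forall_eq 0 fun w => by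
    obtain ⟨v, rfl⟩ := hθs w
    exact hθ0 v
  rw [Module.mem_support_iff_nontrivial_residueField_tensorProduct]
  exact not_nontrivial_iff_subsingleton.mpr hsub

theorem inChart_of_residue (N : Grassmannian A (A ⊗[k] M) q) (x : Fin q → M)
    (hx : ∀ p : PrimeSpectrum A, InChart x (Grassmannian.map (IsScalarTower.toAlgHom k A p.asIdeal.ResidueField) N)) :
    InChart x N := by
  have hsub : Subsingleton (((A ⊗[k] M) ⧸ N.toSubmodule) ⧸ LinearMap.range (sel x N)) := by
    rw [← Module.support_eq_empty_iff (R := A)]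
    exact Set.eq_empty_of_forall_notMem fun p => notMem_support_coker N x p (hx p)
  rw [InChart, ← LinearMap.range_eq_top]
  exact Submodule.Quotient.subsingleton_iff.1 hsub

theorem exists_inChart_nhd (N : Grassmannian A (A ⊗[k] M) q) (x : Fin q → M) (p : PrimeSpectrum A)
    (hx : InChart x (Grassmannian.map (IsScalarTower.toAlgHom k A p.asIdeal.ResidueField) N)) :
    ∃ a : A, a ∉ p.asIdeal ∧ ∀ (B : Type u) [CommRing B] [Algebra k B] (φ : A →ₐ[k] B), IsUnit (φ a) →
      InChart x (Grassmannian.map φ N) := by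
  have hnot := notMem_support_coker N x p hx
  rw [Module.mem_support_iff_of_finite] at hnot
  obtain ⟨a, ha, hap⟩ := SetLike.not_le_iff_exists.mp hnot
  refine ⟨a, hap, fun B _ _ φ hu q => ?_⟩
  obtain ⟨w, rfl⟩ := (Grassmannian.map φ N).toSubmodule.mkQ_surjective q
  refine LinearMap.mem_range.mp ?_
  induction one_tmul_span w using Submodule.span_induction with
  | mem y hy =>
    obtain ⟨m, rfl⟩ := hy
    have hm : a • N.toSubmodule.mkQ ((1 : A) ⊗ₜ[k] m) ∈ LinearMap.range (sel x N) := by
      have := Module.mem_annihilator.mp ha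
        ((LinearMap.range (sel x N)).mkQ (N.toSubmodule.mkQ ((1 : A) ⊗ₜ[k] m)))
      rw [← map_smul, Submodule.mkQ_apply, Submodule.Quotient.mk_eq_zero] at this
      exact this
    obtain ⟨c, hc⟩ := hm
    rw [sel_apply, ← map_smul, Submodule.mkQ_apply, Submodule.mkQ_apply, Submodule.Quotient.eq] at hc
    have hc' := iota_mem_map φ N hc
    simp only [map_sub, map_sum, iota_smul, iota_tmul, map_one] at hc'
    obtain ⟨v, hv⟩ := hu.exists_left_inv
    refine ⟨v • (φ ∘ c), ?_⟩
    rw [map_smul, sel_apply, ← map_smul, Submodule.mkQ_apply, Submodule.mkQ_apply, Submodule.Quotient.eq]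
    have := Submodule.smul_mem _ v hc'
    rwa [smul_sub, smul_smul v (φ a), hv, one_smul] at this
  | zero => simp
  | add x y _ _ hx hy => rw [map_add]; exact add_mem hx hy
  | smul b x _ hx => rw [map_smul]; exact Submodule.smul_mem _ _ hx

end Locality

theorem inGood_of_residue {δ : Datum d r n} {V : W4c1limliniiii.LGPoints k d r n f g A}
    (hV : ∀ p : PrimeSpectrum A, InGood δ (mapPt (IsScalarTower.toAlgHom k A p.asIdeal.ResidueField) V)) :
    InGood δ V := by
  have hc : ∀ i, InChart (xτ (δ.ε i) k) (V.1 i) := fun i =>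
    inChart_of_residue _ _ fun p => (hV p).1 i
  obtain ⟨w, hw, hm⟩ := exists_normal hc
  refine ⟨hc, w, hw, hm, fun i => ?_⟩
  by_contra hu
  obtain ⟨p, hp, hmem⟩ := exists_max_ideal_of_mem_nonunits (a := (minor (δ.ε i) (genVec f g δ.μ w i)).det) hu
  obtain ⟨hc', w', hw', hm', hu'⟩ := hV ⟨p, hp.isPrime⟩
  rw [normal_unique hc' hw' (hw.map _) hm' (fun α => iota_mem_map _ _ (hm α))] at hu'
  have := hu' i
  rw [← iota_genVec, det_minor_iota, isUnit_iff_ne_zero] at this
  exact this (Ideal.algebraMap_residueField_eq_zero.2 hmem)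

theorem exists_inGood_nhd {δ : Datum d r n} {V : W4c1limliniiii.LGPoints k d r n f g A} (p : PrimeSpectrum A)
    (hV : InGood δ (mapPt (IsScalarTower.toAlgHom k A p.asIdeal.ResidueField) V)) :
    ∃ a : A, a ∉ p.asIdeal ∧ ∀ (B : Type u) [CommRing B] [Algebra k B] (φ : A →ₐ[k] B), IsUnit (φ a) →
      InGood δ (mapPt φ V) := by
  classical
  choose a ha hch using fun i => exists_inChart_nhd (V.1 i) (xτ (δ.ε i) k) p (hV.1 i)
  let a₀ := ∏ i, a i
  have ha₀ : a₀ ∉ p.asIdeal := fun hmem => by
    obtain ⟨i, -, hi⟩ := (p.isPrime.prod_mem_iff).1 hmem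
    exact ha i hi
  let loc : A →ₐ[k] Localization.Away a₀ := IsScalarTower.toAlgHom k A _
  have hunit : ∀ i, IsUnit (loc (a i)) := fun i => by
    have := IsLocalization.Away.algebraMap_isUnit (S := Localization.Away a₀) a₀
    rw [show algebraMap A (Localization.Away a₀) a₀ = ∏ i, loc (a i) from map_prod _ _ _] at this
    exact IsUnit.prod_univ_iff.1 this i
  have hc : ∀ i, InChart (xτ (δ.ε i) k) ((mapPt loc V).1 i) := fun i => hch i _ loc (hunit i)
  obtain ⟨w, hw, hm⟩ := exists_normal hc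
  choose m b hb using fun i => IsLocalization.Away.surj a₀ (minor (δ.ε i) (genVec f g δ.μ w i)).det
  -- the residue map extends to the localisation
  let K := p.asIdeal.ResidueField
  have haK : IsUnit (algebraMap A K a₀) :=
    isUnit_iff_ne_zero.2 fun h0 => ha₀ (Ideal.algebraMap_residueField_eq_zero.1 h0)
  let π₀ : Localization.Away a₀ →+* K := IsLocalization.Away.lift a₀ haK
  have hπ₀ : ∀ c, π₀ (loc c) = algebraMap A K c := fun c => IsLocalization.Away.lift_eq a₀ haK c
  let π : Localization.Away a₀ →ₐ[k] K :=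
    { π₀ with
      commutes' := fun c => by
        show π₀ (algebraMap k _ c) = algebraMap k K c
        rw [IsScalarTower.algebraMap_apply k A (Localization.Away a₀)]
        exact (hπ₀ _).trans (IsScalarTower.algebraMap_apply k A K c).symm }
  have hπ : mapPt π (mapPt loc V) = mapPt (IsScalarTower.toAlgHom k A K) V := by
    rw [mapPt_comp, show π.comp loc = IsScalarTower.toAlgHom k A K from AlgHom.ext hπ₀]
  obtain ⟨hc', w', hw', hm', hu'⟩ := hπ ▸ hV
  rw [normal_unique hc' hw' (hw.map π) hm' (fun α => iota_mem_map π _ (hm α))] at hu'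
  have hbp : ∀ i, b i ∉ p.asIdeal := fun i hmem => by
    have h1 := congrArg π (hb i)
    rw [map_mul, map_pow] at h1
    have h2 := hu' i
    rw [← iota_genVec, det_minor_iota, isUnit_iff_ne_zero] at h2
    rw [show π (algebraMap A _ (b i)) = algebraMap A K (b i) from hπ₀ _,
      Ideal.algebraMap_residueField_eq_zero.2 hmem, show π (algebraMap A _ a₀) = algebraMap A K a₀ from hπ₀ _] at h1
    rcases mul_eq_zero.1 h1 with h | h
    · exact h2 h
    · exact haK.ne_zero (eq_zero_of_pow_eq_zero h)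
  refine ⟨a₀ * ∏ i, b i, fun hmem => ?_, fun B _ _ φ hu => ?_⟩
  · rcases p.isPrime.mem_or_mem hmem with h | h
    · exact ha₀ h
    · obtain ⟨i, -, hi⟩ := (p.isPrime.prod_mem_iff).1 h
      exact hbp i hi
  rw [map_mul] at hu
  obtain ⟨hu0, hub⟩ := IsUnit.mul_iff.1 hu
  rw [map_prod φ b] at hub
  let ψ₀ : Localization.Away a₀ →+* B := IsLocalization.Away.lift (g := φ.toRingHom) a₀ hu0
  have hψ₀ : ∀ c, ψ₀ (loc c) = φ c := fun c => IsLocalization.Away.lift_eq a₀ hu0 c
  let ψ : Localization.Away a₀ →ₐ[k] B :=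
    { ψ₀ with
      commutes' := fun c => by
        show ψ₀ (algebraMap k _ c) = algebraMap k B c
        rw [IsScalarTower.algebraMap_apply k A (Localization.Away a₀)]
        exact (hψ₀ _).trans (φ.commutes c) }
  have hψ : mapPt ψ (mapPt loc V) = mapPt φ V := by rw [mapPt_comp, show ψ.comp loc = φ from AlgHom.ext hψ₀]
  refine ⟨fun i => hψ ▸ (hc i).map ψ, _, hw.map ψ, fun α => hψ ▸ iota_mem_map ψ _ (hm α), fun i => ?_⟩
  rw [← iota_genVec, det_minor_iota]
  have h1 := congrArg ψ (hb i)
  rw [map_mul, map_pow, show ψ (algebraMap A _ (b i)) = φ (b i) from hψ₀ _] at h1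
  exact isUnit_of_mul_isUnit_left (h1 ▸ (IsUnit.prod_univ_iff.1 hub i))

/-! ### The parameters of a chart -/

variable (f g) in
/-- the generic normalised generators -/
def genW (δ : Datum d r n) : Fin r → MA k (MvPolynomial (Fin r × Fin (d - r)) k) d := fun α =>
  (co k _ d).symm fun c => Sum.elim (fun l => MvPolynomial.X (α, l)) (fun l => if l = δ.j α then 1 else 0)
    ((δ.ε (δ.μ α)).symm c)

variable (f g) in
/-- the polynomial cutting the chart out of affine space -/
def chartDet (δ : Datum d r n) : MvPolynomial (Fin r × Fin (d - r)) k :=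
  ∏ i, (minor (δ.ε i) (genVec f g δ.μ (genW (k := k) δ) i)).det

variable (f g) in
/-- the coordinate ring of a chart -/
abbrev ChartRing (δ : Datum d r n) : Type u := Localization.Away (chartDet f g δ)

theorem normal_genW (δ : Datum d r n) : Normal δ (genW (k := k) δ) := fun α l => by simp [genW]

theorem co_genW_inl (δ : Datum d r n) (α : Fin r) (l : Fin (d - r)) :
    co k _ d (genW (k := k) δ α) (δ.ε (δ.μ α) (Sum.inl l)) = MvPolynomial.X (α, l) := by simp [genW]

theorem exists_chartPoint (h : Hyp f g s r) (δ : Datum d r n) :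
    ∃ W : W4c1limliniiii.LGPoints k d r n f g (ChartRing f g δ), InGood δ W ∧
      (∀ (A : Type u) [CommRing A] [Algebra k A] (φ ψ : ChartRing f g δ →ₐ[k] A),
        mapPt φ W = mapPt ψ W → φ = ψ) ∧
      ∀ (A : Type u) [CommRing A] [Algebra k A] (V : W4c1limliniiii.LGPoints k d r n f g A), InGood δ V →
        ∃ φ : ChartRing f g δ →ₐ[k] A, mapPt φ W = V := by
  classical
  let loc : MvPolynomial (Fin r × Fin (d - r)) k →ₐ[k] ChartRing f g δ :=
    IsScalarTower.toAlgHom k (MvPolynomial (Fin r × Fin (d - r)) k) (ChartRing f g δ)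
  let w : Fin r → MA k (ChartRing f g δ) d := fun α => iota loc (genW (k := k) δ α)
  have hu : ∀ i, IsUnit (minor (δ.ε i) (genVec f g δ.μ w i)).det := fun i => by
    rw [← iota_genVec, det_minor_iota]
    have := IsLocalization.Away.algebraMap_isUnit (S := ChartRing f g δ) (chartDet f g δ)
    rw [show algebraMap _ (ChartRing f g δ) (chartDet f g δ) =
      ∏ i, loc (minor (δ.ε i) (genVec f g δ.μ (genW (k := k) δ) i)).det from map_prod _ _ _] at this
    exact IsUnit.prod_univ_iff.1 this i
  obtain ⟨W, hW⟩ := exists_lgPoint (f := f) (g := g) hu (fun i α => (genVec_linked h.hI δ.μ w i α).1)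
    (fun i α => (genVec_linked h.hI δ.μ w i α).2)
  have hwm : ∀ α, w α ∈ (W.1 (δ.μ α)).toSubmodule := fun α => by
    rw [(hW _).2]
    exact Submodule.subset_span ⟨α, by rw [genVec, pathA, path_self]; rfl⟩
  have hw : Normal δ w := (normal_genW δ).map loc
  refine ⟨W, ⟨fun i => (hW i).1, w, hw, hwm, hu⟩, fun A _ _ φ ψ he => ?_, fun A _ _ V hV => ?_⟩
  · refine IsLocalization.algHom_ext (Submonoid.powers (chartDet f g δ)) (MvPolynomial.algHom_ext fun p => ?_)
    have hcV : ∀ i, InChart (xτ (δ.ε i) k) ((mapPt φ W).1 i) := fun i => (hW i).1.map φ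
    have := normal_unique hcV (hw.map φ) (hw.map ψ) (fun α => iota_mem_map φ _ (hwm α))
      (fun α => he ▸ iota_mem_map ψ _ (hwm α))
    have h1 := congrArg (fun z : MA k A d => co k A d z (δ.ε (δ.μ p.1) (Sum.inl p.2))) (congrFun this p.1)
    simp only [w, co_iota, co_genW_inl] at h1
    exact h1
  · obtain ⟨hc, v, hv, hvm, hvu⟩ := hV
    let ev : MvPolynomial (Fin r × Fin (d - r)) k →ₐ[k] A :=
      MvPolynomial.aeval fun p => co k A d (v p.1) (δ.ε (δ.μ p.1) (Sum.inl p.2))
    have hev : (fun α => iota ev (genW (k := k) δ α)) = v := funext fun α => (co k A d).injective (funext fun c => by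
      obtain ⟨c, rfl⟩ := (δ.ε (δ.μ α)).surjective c
      rw [co_iota]
      rcases c with l | l
      · rw [co_genW_inl]; simp [ev]
      · rw [normal_genW, hv α l]; split_ifs <;> simp)
    have hΔ : IsUnit (ev (chartDet f g δ)) := by
      rw [chartDet, map_prod]
      refine IsUnit.prod_univ_iff.2 fun i => ?_
      rw [← det_minor_iota, iota_genVec, hev]
      exact hvu i
    let φ₀ : ChartRing f g δ →+* A := IsLocalization.Away.lift (g := ev.toRingHom) (chartDet f g δ) hΔ
    have hφ₀ : ∀ c, φ₀ (loc c) = ev c := fun c => IsLocalization.Away.lift_eq (chartDet f g δ) hΔ c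
    let φ : ChartRing f g δ →ₐ[k] A :=
      { φ₀ with
        commutes' := fun c => by
          show φ₀ (algebraMap k _ c) = algebraMap k A c
          rw [IsScalarTower.algebraMap_apply k (MvPolynomial (Fin r × Fin (d - r)) k) (ChartRing f g δ)]
          exact (hφ₀ _).trans (ev.commutes c) }
    have hφw : (fun α => iota φ (w α)) = v := by
      rw [← hev]
      funext α
      rw [← iota_comp, show φ.comp loc = ev from AlgHom.ext hφ₀]
    refine ⟨φ, Subtype.ext (funext fun i => Grassmannian.ext ?_)⟩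
    rw [InGood.span_eq hc hvm hvu i]
    refine eq_span (δ.ε i) ((hW i).1.map φ) (fun α => ?_) (hvu i)
    rw [← hφw, ← iota_genVec]
    exact iota_mem_map φ _ (pathA_mem W (hwm α) i)

end Groth.Misc6.LinkedGrass
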