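import Mathlib
import Groth.Agent.Misc6.LinkedGrass.Charts
import Groth.Agent.Variety2.DimAffine

/-!
# The generic tuple of a type, and the size of a chart

All nonempty charts of one type contain the tuple spanned by generic generators.
-/

set_option autoImplicit false

universe u

open TensorProduct Module
open Groth.GrassRep

noncomputable section

namespace Groth.Misc6.LinkedGrass

theorem exists_awayLift {k : Type u} [CommRing k] {R S : Type u} [CommRing R] [Algebra k R] [CommRing S] [Algebra k S] (Δ : R)
    (φ : R →ₐ[k] S) (hφ : IsUnit (φ Δ)) :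
    ∃ ψ : Localization.Away Δ →ₐ[k] S,
      ψ.comp (IsScalarTower.toAlgHom k R (Localization.Away Δ)) = φ := by
  let ψ₀ : Localization.Away Δ →+* S := IsLocalization.Away.lift (g := φ.toRingHom) Δ hφ
  have hψ₀ : ∀ c, ψ₀ (algebraMap R _ c) = φ c := fun c => IsLocalization.Away.lift_eq Δ hφ c
  refine ⟨{ ψ₀ with
      commutes' := fun c => ?_ }, AlgHom.ext hψ₀⟩
  show ψ₀ (algebraMap k _ c) = algebraMap k S c
  rw [IsScalarTower.algebraMap_apply k R (Localization.Away Δ)]
  exact (hψ₀ _).trans (φ.commutes c)

variable {k : Type u} [Field k] {d r n : ℕ} {f g : Fin n → ((Fin d → k) →ₗ[k] (Fin d → k))} {s : k}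

variable (k d r) in
/-- the field of the generic generators -/
abbrev GenField : Type u := FractionRing (MvPolynomial (Fin r × Fin d) k)

variable (k d r) in
/-- generators with free coordinates -/
def genP : Fin r → MA k (MvPolynomial (Fin r × Fin d) k) d := fun α =>
  (co k _ d).symm fun c => MvPolynomial.X (α, c)

variable {L : Type u} [Field L] [Algebra k L]

theorem exists_ev (w : Fin r → MA k L d) :
    ∃ ev : MvPolynomial (Fin r × Fin d) k →ₐ[k] L, (fun α => iota ev (genP k d r α)) = w :=
  ⟨MvPolynomial.aeval fun p => co k L d (w p.1) p.2, funext fun α => (co k L d).injective (funext fun c => by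
    rw [co_iota, genP, LinearEquiv.apply_symm_apply, MvPolynomial.aeval_X])⟩

/-- a chart seen at a special point contains the general one -/
theorem inGood_of_specialization {B K : Type u} [CommRing B] [Algebra k B] [Field K] [Algebra k K]
    {δ : Datum d r n} (U : W4c1limliniiii.LGPoints k d r n f g B) (hc : ∀ i, InChart (xτ (δ.ε i) k) (U.1 i))
    {v : Fin r → MA k B d} (hv : ∀ α, v α ∈ (U.1 (δ.μ α)).toSubmodule) {ψ : B →ₐ[k] L}
    (hw : Normal δ fun α => iota ψ (v α))
    (hu : ∀ i, IsUnit (minor (δ.ε i) (genVec f g δ.μ (fun α => iota ψ (v α)) i)).det)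
    {π : B →ₐ[k] K} (hπ : Function.Injective π) : InGood δ (mapPt π U) := by
  obtain ⟨z, hz, hzm⟩ := exists_normal (δ := δ) hc
  have hzw : (fun α => iota ψ (z α)) = fun α => iota ψ (v α) :=
    normal_unique (V := mapPt ψ U) (fun i => (hc i).map ψ) (hz.map ψ) hw (fun α => iota_mem_map ψ _ (hzm α))
      (fun α => iota_mem_map ψ _ (hv α))
  refine ⟨fun i => (hc i).map π, _, hz.map π, fun α => iota_mem_map π _ (hzm α), fun i => ?_⟩
  rw [← iota_genVec, det_minor_iota, isUnit_iff_ne_zero, map_ne_zero_iff _ hπ]
  intro h0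
  have := hu i
  rw [← hzw, ← iota_genVec, det_minor_iota, h0, map_zero] at this
  exact not_isUnit_zero this

/-- the tuple spanned by parametrised generators lies in the charts of its specialisations -/
theorem exists_generic_aux (h : Hyp f g s r) (δ : Datum d r n) {R : Type u} [CommRing R] [IsDomain R]
    [Algebra k R] (v : Fin r → MA k R d) (ev : R →ₐ[k] L) (hw : Normal δ fun α => iota ev (v α))
    (hu : ∀ i, IsUnit (minor (δ.ε i) (genVec f g δ.μ (fun α => iota ev (v α)) i)).det) :
    ∃ W : W4c1limliniiii.LGPoints k d r n f g (FractionRing R), InGood δ W ∧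
      ∀ i, (W.1 i).toSubmodule = Submodule.span (FractionRing R) (Set.range (genVec f g δ.μ (fun α =>
        iota (IsScalarTower.toAlgHom k R (FractionRing R)) (v α)) i)) := by
  classical
  let Δ : R := ∏ i, (minor (δ.ε i) (genVec f g δ.μ v i)).det
  have hΔ : IsUnit (ev Δ) := by
    rw [map_prod]
    refine IsUnit.prod_univ_iff.2 fun i => ?_
    rw [← det_minor_iota, iota_genVec]
    exact hu i
  have hΔ0 : Δ ≠ 0 := fun h0 => by rw [h0, map_zero] at hΔ; exact not_isUnit_zero hΔ
  let loc : R →ₐ[k] Localization.Away Δ := IsScalarTower.toAlgHom k R _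
  have hdet : ∀ i, IsUnit (minor (δ.ε i) (genVec f g δ.μ (fun α => iota loc (v α)) i)).det := fun i => by
    rw [← iota_genVec, det_minor_iota]
    have := IsLocalization.Away.algebraMap_isUnit (S := Localization.Away Δ) Δ
    rw [show algebraMap R (Localization.Away Δ) Δ = ∏ i, loc (minor (δ.ε i) (genVec f g δ.μ v i)).det from
      map_prod _ _ _] at this
    exact IsUnit.prod_univ_iff.1 this i
  obtain ⟨U, hU⟩ := exists_lgPoint (f := f) (g := g) hdet (fun i α => (genVec_linked h.hI δ.μ _ i α).1)
    (fun i α => (genVec_linked h.hI δ.μ _ i α).2)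
  have hmem : ∀ α, iota loc (v α) ∈ (U.1 (δ.μ α)).toSubmodule := fun α => by
    rw [(hU _).2]
    exact Submodule.subset_span ⟨α, by rw [genVec, pathA, path_self]; rfl⟩
  obtain ⟨ψ, hψ⟩ := exists_awayLift Δ ev hΔ
  obtain ⟨π, hπ⟩ := exists_awayLift Δ (IsScalarTower.toAlgHom k R (FractionRing R))
    (isUnit_iff_ne_zero.2 ((map_ne_zero_iff _ (IsFractionRing.injective R (FractionRing R))).2 hΔ0))
  have hψv : (fun α => iota ψ (iota loc (v α))) = fun α => iota ev (v α) :=
    funext fun α => by rw [← iota_comp, hψ]
  have hπinj : Function.Injective π := by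
    rw [injective_iff_map_eq_zero]
    intro b hb
    obtain ⟨m, p, hp⟩ := IsLocalization.Away.surj Δ b
    have h1 := congrArg π hp
    rw [map_mul, hb, zero_mul, show π (algebraMap R _ p) = algebraMap R (FractionRing R) p from
      AlgHom.congr_fun hπ p] at h1
    rw [(map_eq_zero_iff _ (IsFractionRing.injective R (FractionRing R))).1 h1.symm, map_zero] at hp
    exact (IsUnit.mul_left_eq_zero ((IsLocalization.Away.algebraMap_isUnit Δ).pow m)).1 hp
  refine ⟨mapPt π U, inGood_of_specialization U (fun i => (hU i).1) hmem (ψ := ψ) ?_ ?_ hπinj, fun i => ?_⟩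
  · rw [hψv]; exact hw
  · rw [hψv]; exact hu
  · rw [show (fun α => iota (IsScalarTower.toAlgHom k R (FractionRing R)) (v α)) =
      fun α => iota π (iota loc (v α)) from funext fun α => by rw [← iota_comp, hπ]]
    refine eq_span (δ.ε i) ((hU i).1.map π) (fun α => ?_) ?_
    · rw [← iota_genVec]
      exact iota_mem_map π _ ((hU i).2 ▸ Submodule.subset_span ⟨α, rfl⟩)
    · rw [← iota_genVec, det_minor_iota]
      exact (hdet i).map π

/-- Every nonempty chart contains the generic tuple. -/
theorem exists_generic (h : Hyp f g s r) (δ : Datum d r n) {V : W4c1limliniiii.LGPoints k d r n f g L}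
    (hV : InGood δ V) :
    ∃ W : W4c1limliniiii.LGPoints k d r n f g (GenField k d r), InGood δ W ∧
      ∀ i, (W.1 i).toSubmodule = Submodule.span (GenField k d r) (Set.range (genVec f g δ.μ (fun α =>
        iota (IsScalarTower.toAlgHom k (MvPolynomial (Fin r × Fin d) k) (GenField k d r)) (genP k d r α)) i)) := by
  obtain ⟨-, w, hwn, -, hu⟩ := hV
  obtain ⟨ev, rfl⟩ := exists_ev (k := k) w
  exact exists_generic_aux h δ (genP k d r) ev hwn hu

/-- Two nonempty charts of one type meet. -/
theorem exists_inGood_inGood (h : Hyp f g s r) {δ δ' : Datum d r n} (hμ : δ.μ = δ'.μ)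
    {V : W4c1limliniiii.LGPoints k d r n f g L} (hV : InGood δ V)
    {L' : Type u} [Field L'] [Algebra k L'] {V' : W4c1limliniiii.LGPoints k d r n f g L'} (hV' : InGood δ' V') :
    ∃ W : W4c1limliniiii.LGPoints k d r n f g (GenField k d r), InGood δ W ∧ InGood δ' W := by
  obtain ⟨W, hW, hWs⟩ := exists_generic h δ hV
  obtain ⟨W', hW', hWs'⟩ := exists_generic h δ' hV'
  refine ⟨W, hW, ?_⟩
  have : W = W' := Subtype.ext (funext fun i => Grassmannian.ext (by rw [hWs, hWs', hμ]))
  rwa [this]

theorem isDomain_chartRing {δ : Datum d r n} (hne : chartDet f g δ ≠ 0) : IsDomain (ChartRing f g δ) :=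
  IsLocalization.isDomain_localization (powers_le_nonZeroDivisors_of_noZeroDivisors hne)

theorem subsingleton_chartRing {δ : Datum d r n} (he : chartDet f g δ = 0) : Subsingleton (ChartRing f g δ) :=
  IsLocalization.subsingleton (R := MvPolynomial (Fin r × Fin (d - r)) k)
    (M := Submonoid.powers (chartDet f g δ)) (he ▸ Submonoid.mem_powers _)

/-- Charts have dimension `r(d - r)`. -/
theorem ringKrullDim_chartRing {δ : Datum d r n} (hne : chartDet f g δ ≠ 0) :
    ringKrullDim (ChartRing f g δ) = (r * (d - r) : ℕ) := by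
  haveI := isDomain_chartRing hne
  let R := MvPolynomial (Fin r × Fin (d - r)) k
  let C := ChartRing f g δ
  haveI : Algebra.FiniteType R C := Algebra.FiniteType.of_finitePresentation
  haveI : Algebra.FiniteType k C := Algebra.FiniteType.trans (S := R) inferInstance inferInstance
  obtain ⟨m, hm, hdim, -⟩ := Groth.Variety2.Dim.exists_dim k C
  have hinj : Function.Injective (algebraMap R C) :=
    IsLocalization.injective C (powers_le_nonZeroDivisors_of_noZeroDivisors hne)
  haveI : Algebra.IsAlgebraic R C := IsLocalization.isAlgebraic _ (Submonoid.powers (chartDet f g δ))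
  haveI : Algebra.IsAlgebraic C (FractionRing C) := IsLocalization.isAlgebraic _ (nonZeroDivisors C)
  haveI : FaithfulSMul R C := (faithfulSMul_iff_algebraMap_injective _ _).2 hinj
  haveI : Algebra.IsAlgebraic R (FractionRing C) := Algebra.IsAlgebraic.trans R C _
  haveI : FaithfulSMul R (FractionRing C) := by
    rw [faithfulSMul_iff_algebraMap_injective, IsScalarTower.algebraMap_eq R C (FractionRing C)]
    exact (IsFractionRing.injective C (FractionRing C)).comp hinj
  rw [← trdeg_add_eq k R (A := FractionRing C), trdeg_eq_zero (R := R) (A := FractionRing C),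
    MvPolynomial.trdeg_of_isDomain] at hm
  simp only [Cardinal.mk_fintype, Fintype.card_prod, Fintype.card_fin, Cardinal.lift_natCast, add_zero,
    Nat.cast_inj] at hm
  rw [hdim, hm]

end Groth.Misc6.LinkedGrass
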