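import Mathlib
import Groth.Agent.Misc6.LinkedGrass.Generic
import Groth.Agent.GrassRep.Pts

/-!
# The strata of a linked Grassmannian

The points whose tuple has generators of a given type form disjoint open irreducible strata, covered by
affine charts, whose closures cover the space.
-/

set_option autoImplicit false

universe u

open CategoryTheory AlgebraicGeometry TensorProduct Module
open Groth.GrassRep

noncomputable section

namespace Groth.Misc6.LinkedGrass

section General

variable {k : Type u} [CommRing k] {d r n : ℕ} {f g : Fin n → ((Fin d → k) →ₗ[k] (Fin d → k))}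
variable {X : Over (Spec (CommRingCat.of k))}

/-- a scheme representing the linked Grassmannian functor -/
structure Rep (f g : Fin n → ((Fin d → k) →ₗ[k] (Fin d → k))) (r : ℕ) (X : Over (Spec (CommRingCat.of k))) where
  /-- the bijections on points -/
  e : ∀ A : CommAlgCat.{u} k, (Pt A ⟶ X) ≃ W4c1limliniiii.LGPoints k d r n f g A
  nat : ∀ (A B : CommAlgCat.{u} k) (φ : A ⟶ B) (x : Pt A ⟶ X), e B (ptMap φ ≫ x) = mapPt φ.hom (e A x)

/-- the residue field of a point as an algebra over the base field -/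
instance algκ (x : X.left) : Algebra k (X.left.residueField x) :=
  (Spec.preimage (X.left.fromSpecResidueField x ≫ X.hom)).hom.toAlgebra

/-- the point with values in the residue field -/
def resPt (x : X.left) : Pt (CommAlgCat.of k (X.left.residueField x)) ⟶ X :=
  Over.homMk (X.left.fromSpecResidueField x) (by
    show X.left.fromSpecResidueField x ≫ X.hom = Spec.map _
    exact (Spec.map_preimage _).symm)

/-- the tuple at a point -/
def val (R : Rep f g r X) (x : X.left) : W4c1limliniiii.LGPoints k d r n f g (X.left.residueField x) :=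
  R.e (CommAlgCat.of k (X.left.residueField x)) (resPt x)

variable {L : Type u} [Field L] [Algebra k L]

/-- the image of a field-valued point -/
def pt (y : Pt (CommAlgCat.of k L) ⟶ X) : X.left :=
  y.left (IsLocalRing.closedPoint L)

theorem exists_desc (F : Spec (CommRingCat.of L) ⟶ X.left)
    (hF : F ≫ X.hom = Spec.map (CommRingCat.ofHom (algebraMap k L))) :
    ∃ φ : X.left.residueField (F (IsLocalRing.closedPoint L)) →ₐ[k] L,
      Spec.map (CommRingCat.ofHom φ.toRingHom) ≫ X.left.fromSpecResidueField (F (IsLocalRing.closedPoint L)) = F := by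
  let χ : X.left.residueField (F (IsLocalRing.closedPoint L)) ⟶ CommRingCat.of L :=
    X.left.descResidueField (Scheme.stalkClosedPointTo F)
  have hχ : Spec.map χ ≫ X.left.fromSpecResidueField (F (IsLocalRing.closedPoint L)) = F :=
    Scheme.descResidueField_stalkClosedPointTo_fromSpecResidueField L X.left F
  have hw := hF
  conv_lhs at hw => rw [← hχ, Category.assoc,
    ← Spec.map_preimage (X.left.fromSpecResidueField _ ≫ X.hom), ← Spec.map_comp]
  exact ⟨{ χ.hom with commutes' := fun c => ConcreteCategory.congr_hom (Spec.map_injective hw) c }, hχ⟩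

theorem exists_mapPt (R : Rep f g r X) (y : Pt (CommAlgCat.of k L) ⟶ X) :
    ∃ φ : X.left.residueField (pt y) →ₐ[k] L, mapPt φ (val R (pt y)) = R.e (CommAlgCat.of k L) y := by
  obtain ⟨φ, hφ⟩ := exists_desc (L := L) y.left (Over.w y)
  exact ⟨φ, (R.nat _ _ (CommAlgCat.ofHom φ) (resPt (pt y))).symm.trans (congrArg _ (Over.OverMorphism.ext hφ))⟩

/-- the points of a given type -/
def stratum (R : Rep f g r X) (μ : Fin r → Fin (n + 1)) : Set X.left := {x | Good μ (val R x)}

end General

variable {k : Type u} [Field k] {d r n : ℕ} {f g : Fin n → ((Fin d → k) →ₗ[k] (Fin d → k))} {s : k}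
variable {X : Over (Spec (CommRingCat.of k))} {L : Type u} [Field L] [Algebra k L]

/-- the points in a chart -/
def chartSet (R : Rep f g r X) (δ : Datum d r n) : Set X.left := {x | InGood δ (val R x)}

theorem pt_mem_stratum_iff (R : Rep f g r X) (h : Hyp f g s r) {μ : Fin r → Fin (n + 1)} (hμ : Adm s μ)
    (y : Pt (CommAlgCat.of k L) ⟶ X) :
    pt y ∈ stratum R μ ↔ Good μ (show W4c1limliniiii.LGPoints k d r n f g L from R.e (CommAlgCat.of k L) y) := by
  obtain ⟨φ, hφ⟩ := exists_mapPt R y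
  rw [← hφ]
  exact ⟨fun hg => Good.map h.hrd hg φ, fun hg => Good.descend h hμ φ hg⟩

theorem pt_mem_chartSet_iff (R : Rep f g r X) (δ : Datum d r n) (y : Pt (CommAlgCat.of k L) ⟶ X) :
    pt y ∈ chartSet R δ ↔ InGood δ (show W4c1limliniiii.LGPoints k d r n f g L from R.e (CommAlgCat.of k L) y) := by
  obtain ⟨φ, hφ⟩ := exists_mapPt R y
  rw [← hφ]
  exact ⟨fun hg => hg.map φ, fun hg => InGood.descend φ hg⟩

theorem pt_residue {A : CommAlgCat.{u} k} (p : PrimeSpectrum A) (x : Pt A ⟶ X) :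
    pt (ptMap (CommAlgCat.ofHom (IsScalarTower.toAlgHom k A p.asIdeal.ResidueField)) ≫ x) = x.left p := by
  show x.left (PrimeSpectrum.comap (algebraMap A p.asIdeal.ResidueField) (IsLocalRing.closedPoint _)) = _
  congr 1
  refine PrimeSpectrum.ext ?_
  show (IsLocalRing.maximalIdeal p.asIdeal.ResidueField).comap _ = _
  rw [IsLocalRing.maximalIdeal_eq_bot]
  exact p.asIdeal.ker_algebraMap_residueField

theorem inGood_residue_iff (R : Rep f g r X) (δ : Datum d r n) {A : CommAlgCat.{u} k} (p : PrimeSpectrum A)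
    (x : Pt A ⟶ X) :
    x.left p ∈ chartSet R δ ↔
      InGood δ (mapPt (IsScalarTower.toAlgHom k A p.asIdeal.ResidueField) (R.e A x)) := by
  rw [← pt_residue p x, pt_mem_chartSet_iff, R.nat]
  exact Iff.rfl

theorem range_subset_chartSet_iff (R : Rep f g r X) (δ : Datum d r n) {A : CommAlgCat.{u} k} (x : Pt A ⟶ X) :
    Set.range x.left ⊆ chartSet R δ ↔ InGood δ (R.e A x) := by
  refine ⟨fun hr => inGood_of_residue fun p => (inGood_residue_iff R δ p x).1 (hr ⟨p, rfl⟩), ?_⟩
  rintro hV _ ⟨p, rfl⟩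
  exact (inGood_residue_iff R δ p x).2 (hV.map _)

theorem isOpen_chartSet (R : Rep f g r X) (δ : Datum d r n) : IsOpen (chartSet R δ) := by
  obtain ⟨ι, A, c, hc, hcov⟩ := Groth.GrassRep.exists_cover X
  refine isOpen_iff_forall_mem_open.2 fun x hx => ?_
  obtain ⟨i, p, rfl⟩ := hcov x
  obtain ⟨a, hap, ha⟩ := exists_inGood_nhd p ((inGood_residue_iff R δ p (c i)).1 hx)
  have := hc i
  refine ⟨(c i).left '' (PrimeSpectrum.basicOpen a : Set (PrimeSpectrum (A i))), ?_,
    (c i).left.isOpenEmbedding.isOpenMap _ (PrimeSpectrum.basicOpen a).2, ⟨p, hap, rfl⟩⟩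
  rintro _ ⟨q, hq, rfl⟩
  exact (inGood_residue_iff R δ q (c i)).2
    (ha _ _ (isUnit_iff_ne_zero.2 fun h0 => hq (Ideal.algebraMap_residueField_eq_zero.1 h0)))

theorem chartSet_subset (R : Rep f g r X) (δ : Datum d r n) : chartSet R δ ⊆ stratum R δ.μ := fun _ hx =>
  InGood.good hx

theorem stratum_eq (R : Rep f g r X) (h : Hyp f g s r) {μ : Fin r → Fin (n + 1)} (hμ : Adm s μ) :
    stratum R μ = ⋃ (δ : Datum d r n) (_ : δ.μ = μ), chartSet R δ := by
  ext x
  simp only [Set.mem_iUnion]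
  refine ⟨fun hx => ?_, ?_⟩
  · obtain ⟨δ, hδ, hx'⟩ := exists_inGood h hμ hx
    exact ⟨δ, hδ, hx'⟩
  · rintro ⟨δ, rfl, hx⟩
    exact chartSet_subset R δ hx

theorem isOpen_stratum (R : Rep f g r X) (h : Hyp f g s r) {μ : Fin r → Fin (n + 1)} (hμ : Adm s μ) :
    IsOpen (stratum R μ) := by
  rw [stratum_eq R h hμ]
  exact isOpen_biUnion fun δ _ => isOpen_chartSet R δ

theorem disjoint_stratum (R : Rep f g r X) (h : Hyp f g s r) {μ μ' : Fin r → Fin (n + 1)} (hμ : Adm s μ)
    (hμ' : Adm s μ') {x : X.left} (hx : x ∈ stratum R μ) (hx' : x ∈ stratum R μ') : μ = μ' :=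
  Good.unique h hμ hμ' hx hx'

/-- A chart of the linked Grassmannian. -/
theorem exists_chartHom (R : Rep f g r X) (h : Hyp f g s r) (δ : Datum d r n) :
    ∃ c : Pt (CommAlgCat.of k (ChartRing f g δ)) ⟶ X,
      IsOpenImmersion c.left ∧ Set.range c.left = chartSet R δ := by
  let O : X.left.Opens := ⟨chartSet R δ, isOpen_chartSet R δ⟩
  let Y : Over (Spec (CommRingCat.of k)) := Over.mk (O.ι ≫ X.hom)
  let ι : Y ⟶ X := Over.homMk O.ι rfl
  have hι : ∀ {T : Over (Spec (CommRingCat.of k))} (u u' : T ⟶ Y), u ≫ ι = u' ≫ ι → u = u' := fun u u' he =>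
    Over.OverMorphism.ext ((cancel_mono O.ι).1 (congrArg CommaMorphism.left he))
  have hlift : ∀ (A : CommAlgCat.{u} k) (x : Pt A ⟶ X), InGood δ (R.e A x) → ∃ y : Pt A ⟶ Y, y ≫ ι = x := by
    intro A x hx
    have hr : Set.range x.left ⊆ Set.range O.ι := by
      rw [Scheme.Opens.range_ι]
      exact (range_subset_chartSet_iff R δ x).2 hx
    refine ⟨Over.homMk (IsOpenImmersion.lift O.ι x.left hr) ?_, Over.OverMorphism.ext (IsOpenImmersion.lift_fac _ _ _)⟩
    show IsOpenImmersion.lift O.ι x.left hr ≫ O.ι ≫ X.hom = _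
    rw [IsOpenImmersion.lift_fac_assoc]
    exact Over.w x
  obtain ⟨W, hW, hWinj, hWsurj⟩ := exists_chartPoint (f := f) (g := g) h δ
  let C : CommAlgCat.{u} k := CommAlgCat.of k (ChartRing f g δ)
  let c₀ : Pt C ⟶ X := (R.e C).symm W
  have hc₀ : R.e C c₀ = W := (R.e C).apply_symm_apply W
  have hin : ∀ (A : CommAlgCat.{u} k) (u : Pt A ⟶ Pt C), InGood δ (R.e A (u ≫ c₀)) := fun A u => by
    obtain ⟨φ, rfl⟩ := exists_ptMap u
    rw [R.nat, hc₀]
    exact hW.map φ.hom
  choose F hF using fun (A : CommAlgCat.{u} k) (u : Pt A ⟶ Pt C) => hlift A _ (hin A u)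
  have hFb : ∀ A, Function.Bijective (F A) := fun A => by
    refine ⟨fun u u' he => ?_, fun y => ?_⟩
    · have he' : R.e A (u ≫ c₀) = R.e A (u' ≫ c₀) := by rw [← hF, ← hF, he]
      obtain ⟨φ, rfl⟩ := exists_ptMap u
      obtain ⟨ψ, rfl⟩ := exists_ptMap u'
      rw [R.nat, R.nat, hc₀] at he'
      exact congrArg ptMap (CommAlgCat.hom_ext (hWinj A φ.hom ψ.hom he'))
    · have hy : InGood δ (R.e A (y ≫ ι)) := (range_subset_chartSet_iff R δ (y ≫ ι)).1 (by
        rintro _ ⟨p, rfl⟩
        exact (y.left p).2)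
      obtain ⟨φ, hφ⟩ := hWsurj A _ hy
      refine ⟨ptMap (CommAlgCat.ofHom φ), hι _ _ ((hF _ _).trans ((R.e A).injective ?_))⟩
      rw [R.nat, hc₀]
      exact hφ
  obtain ⟨i, hi⟩ := exists_iso_of_pts (fun A => Equiv.ofBijective (F A) (hFb A)) fun A B φ u => hι _ _ (by
    show F B (ptMap φ ≫ u) ≫ ι = (ptMap φ ≫ F A u) ≫ ι
    rw [hF, Category.assoc, Category.assoc, hF])
  refine ⟨i.hom ≫ ι, ?_, ?_⟩
  · show IsOpenImmersion (i.hom.left ≫ O.ι)
    infer_instance
  · show Set.range (i.hom.left ≫ O.ι) = _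
    rw [Scheme.Hom.comp_base, TopCat.coe_comp, Set.range_comp, Set.range_eq_univ.2, Set.image_univ,
      Scheme.Opens.range_ι]
    · rfl
    · exact i.hom.left.surjective

end Groth.Misc6.LinkedGrass
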