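import Mathlib
import Groth.Agent.Misc6.LinkedGrass.Scheme
import Groth.Agent.GrassRep.Linked

/-!
# Linked Grassmannians over a domain

Every point generalises to one of finitely many tuples spanned by generic generators, all lying over
the generic point of the base; if the scalar of the chain is non-zero there is only one.
-/

set_option autoImplicit false

universe u

open CategoryTheory AlgebraicGeometry TensorProduct Module
open Groth.GrassRep

noncomputable section

namespace Groth.Misc6.LinkedGrass

section Fibre

variable {R : Type u} [CommRing R] {d n : ℕ} {f g : Fin n → ((Fin d → R) →ₗ[R] (Fin d → R))} {s : R}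

theorem baseChange_naturality {P : Ideal R} [P.IsPrime] (L : Type u) [Field L] [Algebra R L]
    [Algebra P.ResidueField L] [IsScalarTower R P.ResidueField L] (u : (Fin d → R) →ₗ[R] (Fin d → R))
    (z : L ⊗[P.ResidueField] MA R P.ResidueField d) :
    AlgebraTensorModule.cancelBaseChange R P.ResidueField L L (Fin d → R)
        ((u.baseChange P.ResidueField).baseChange L z) =
      u.baseChange L (AlgebraTensorModule.cancelBaseChange R P.ResidueField L L (Fin d → R) z) := by
  induction z using TensorProduct.induction_on with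
  | zero => simp
  | tmul l y =>
    induction y using TensorProduct.induction_on with
    | zero => simp
    | tmul c v => simp
    | add a b ha hb => simp only [TensorProduct.tmul_add, map_add, ha, hb]
  | add a b ha hb => simp only [map_add, ha, hb]

theorem range_eq_ker {P : Ideal R} [P.IsPrime] {u v : (Fin d → R) →ₗ[R] (Fin d → R)}
    (huv : u.comp v = s • LinearMap.id) (hs : algebraMap R P.ResidueField s = 0)
    (hrk : d ≤ Module.finrank P.ResidueField (LinearMap.range (u.baseChange P.ResidueField)) +
      Module.finrank P.ResidueField (LinearMap.range (v.baseChange P.ResidueField))) :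
    LinearMap.ker (u.baseChange P.ResidueField) = LinearMap.range (v.baseChange P.ResidueField) := by
  have h1 : LinearMap.range (v.baseChange P.ResidueField) ≤ LinearMap.ker (u.baseChange P.ResidueField) := by
    rw [LinearMap.range_le_ker_iff, ← LinearMap.baseChange_comp, huv, LinearMap.baseChange_smul,
      LinearMap.baseChange_id, ← algebraMap_smul P.ResidueField s, hs, zero_smul]
  have hu := (u.baseChange P.ResidueField).finrank_range_add_finrank_ker
  rw [(co R P.ResidueField d).finrank_eq, Module.finrank_fin_fun] at hu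
  exact (Submodule.eq_of_le_of_finrank_le h1 (by omega)).symm

theorem exists_preimage_baseChange {P : Ideal R} [P.IsPrime] (L : Type u) [Field L] [Algebra R L]
    [Algebra P.ResidueField L] [IsScalarTower R P.ResidueField L] {u v : (Fin d → R) →ₗ[R] (Fin d → R)}
    (h : LinearMap.ker (u.baseChange P.ResidueField) = LinearMap.range (v.baseChange P.ResidueField))
    (x : MA R L d) (hx : u.baseChange L x = 0) : ∃ y, v.baseChange L y = x := by
  let θ := AlgebraTensorModule.cancelBaseChange R P.ResidueField L L (Fin d → R)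
  have hx' : (u.baseChange P.ResidueField).baseChange L (θ.symm x) = 0 := θ.injective (by
    rw [map_zero, baseChange_naturality, LinearEquiv.apply_symm_apply, hx])
  obtain ⟨y, hy⟩ := ((Module.Flat.lTensor_exact L (LinearMap.exact_iff.2 h)) (θ.symm x)).1 hx'
  refine ⟨θ y, ?_⟩
  rw [← baseChange_naturality, show (v.baseChange P.ResidueField).baseChange L y = θ.symm x from hy,
    LinearEquiv.apply_symm_apply]

theorem eq_zero_baseChange {P : Ideal R} [P.IsPrime] (L : Type u) [Field L] [Algebra R L]
    [Algebra P.ResidueField L] [IsScalarTower R P.ResidueField L] {u v : (Fin d → R) →ₗ[R] (Fin d → R)}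
    (h : LinearMap.ker ((u.baseChange P.ResidueField).prod (v.baseChange P.ResidueField)) = ⊥)
    (x : MA R L d) (hu : u.baseChange L x = 0) (hv : v.baseChange L x = 0) : x = 0 := by
  let θ := AlgebraTensorModule.cancelBaseChange R P.ResidueField L L (Fin d → R)
  obtain ⟨Q, hQ⟩ := LinearMap.exists_leftInverse_of_injective _ h
  have hsum : (Q.comp (LinearMap.inl P.ResidueField _ _)).comp (u.baseChange P.ResidueField) +
      (Q.comp (LinearMap.inr P.ResidueField _ _)).comp (v.baseChange P.ResidueField) = LinearMap.id := by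
    refine LinearMap.ext fun y => ?_
    simp only [LinearMap.add_apply, LinearMap.comp_apply, ← map_add, LinearMap.inl_apply, LinearMap.inr_apply,
      Prod.mk_add_mk, add_zero, zero_add]
    exact LinearMap.congr_fun hQ y
  have := LinearMap.congr_fun (congrArg (LinearMap.baseChange L) hsum) (θ.symm x)
  simp only [LinearMap.baseChange_id, LinearMap.baseChange_add, LinearMap.baseChange_comp, LinearMap.add_apply,
    LinearMap.comp_apply, LinearMap.id_apply] at this
  have h0 : ∀ w : (Fin d → R) →ₗ[R] (Fin d → R), w.baseChange L x = 0 →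
      (w.baseChange P.ResidueField).baseChange L (θ.symm x) = 0 := fun w hw => θ.injective (by
    rw [map_zero, baseChange_naturality, LinearEquiv.apply_symm_apply, hw])
  rw [h0 u hu, h0 v hv] at this
  simp only [map_zero, add_zero, zero_add] at this
  exact θ.symm.injective (this.symm.trans (map_zero _).symm)

/-- the hypotheses at the fibres give the degenerate hypotheses at every field where the scalar dies -/
theorem split_of_fibres (hI : ∀ i, (f i).comp (g i) = s • LinearMap.id ∧ (g i).comp (f i) = s • LinearMap.id)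
    (hII : ∀ (P : Ideal R) [P.IsPrime], ∀ i,
      d ≤ Module.finrank P.ResidueField (LinearMap.range ((f i).baseChange P.ResidueField)) +
        Module.finrank P.ResidueField (LinearMap.range ((g i).baseChange P.ResidueField)))
    (hIII : ∀ (P : Ideal R) [P.IsPrime], ∀ i j : Fin n, i.val + 1 = j.val →
      LinearMap.range ((f i).baseChange P.ResidueField) ⊓ LinearMap.ker ((f j).baseChange P.ResidueField) = ⊥ ∧
        LinearMap.range ((g j).baseChange P.ResidueField) ⊓ LinearMap.ker ((g i).baseChange P.ResidueField) = ⊥)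
    (L : Type u) [Field L] [Algebra R L] (hs : algebraMap R L s = 0) : Split f g L := by
  let P : Ideal R := RingHom.ker (algebraMap R L)
  haveI : P.IsPrime := RingHom.ker_isPrime _
  let ψ : P.ResidueField →ₐ[R] L := Ideal.ResidueField.liftₐ P (Algebra.ofId R L) le_rfl (by
    intro a ha
    exact isUnit_iff_ne_zero.2 ha)
  letI : Algebra P.ResidueField L := ψ.toRingHom.toAlgebra
  haveI : IsScalarTower R P.ResidueField L := IsScalarTower.of_algebraMap_eq fun c => (ψ.commutes c).symm
  have hsP : algebraMap R P.ResidueField s = 0 := Ideal.algebraMap_residueField_eq_zero.2 hs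
  have hfg : ∀ i, LinearMap.ker ((f i).baseChange P.ResidueField) = LinearMap.range ((g i).baseChange P.ResidueField) :=
    fun i => range_eq_ker (hI i).1 hsP (hII P i)
  have hgf : ∀ i, LinearMap.ker ((g i).baseChange P.ResidueField) = LinearMap.range ((f i).baseChange P.ResidueField) :=
    fun i => range_eq_ker (hI i).2 hsP ((hII P i).trans (add_comm _ _).le)
  refine ⟨fun i => ?_, fun i => ?_, fun i => exists_preimage_baseChange L (hfg i),
    fun i => exists_preimage_baseChange L (hgf i), fun i j hij x hj hi => eq_zero_baseChange (P := P) L ?_ x hj hi⟩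
  · rw [FA_mul (fun i => (hI i).1) i, hs, zero_smul]
  · rw [FA_mul (fun i => (hI i).2) i, hs, zero_smul]
  · rw [LinearMap.ker_prod, hgf i, inf_comm]
    exact (hIII P i j hij).1

end Fibre

variable {R : Type u} [CommRing R] [IsDomain R] {d r n : ℕ}
variable {f g : Fin n → ((Fin d → R) →ₗ[R] (Fin d → R))} {s : R}
variable {X : Over (Spec (CommRingCat.of R))}

variable (R d r) in
/-- free generators over the base -/
def genA : Fin r → MA R (MvPolynomial (Fin r × Fin d) R) d := fun α =>
  (co R _ d).symm fun c => MvPolynomial.X (α, c)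

variable (R d r) in
/-- the field of the free generators -/
abbrev GenK : Type u := FractionRing (MvPolynomial (Fin r × Fin d) R)

/-- `z` is the tuple of free generators at the vertices `μ` -/
def IsGeneric (E : Rep f g r X) (μ : Fin r → Fin (n + 1)) (z : Pt (CommAlgCat.of R (GenK R d r)) ⟶ X) : Prop :=
  ∀ i, ((E.e (CommAlgCat.of R (GenK R d r)) z).1 i).toSubmodule = Submodule.span (GenK R d r)
    (Set.range (genVec f g μ (fun α =>
      iota (IsScalarTower.toAlgHom R (MvPolynomial (Fin r × Fin d) R) (GenK R d r)) (genA R d r α)) i))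

theorem IsGeneric.unique {E : Rep f g r X} {μ : Fin r → Fin (n + 1)} {z z' : Pt (CommAlgCat.of R (GenK R d r)) ⟶ X}
    (hz : IsGeneric E μ z) (hz' : IsGeneric E μ z') : z = z' :=
  (E.e _).injective (Subtype.ext (funext fun i => Grassmannian.ext ((hz i).trans (hz' i).symm)))

omit [IsDomain R] in
theorem pt_specializes {B : Type u} [CommRing B] [Algebra R B] {K L : Type u} [Field K] [Algebra R K] [Field L]
    [Algebra R L] (y : Pt (CommAlgCat.of R B) ⟶ X) {π : B →ₐ[R] K} (hπ : Function.Injective π) (φ : B →ₐ[R] L) :
    pt (L := K) (ptMap (CommAlgCat.ofHom π) ≫ y) ⤳ pt (L := L) (ptMap (CommAlgCat.ofHom φ) ≫ y) := by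
  let η : PrimeSpectrum B := PrimeSpectrum.comap π.toRingHom (IsLocalRing.closedPoint K)
  let q : PrimeSpectrum B := PrimeSpectrum.comap φ.toRingHom (IsLocalRing.closedPoint L)
  have hle : η ≤ q := fun a ha => by
    have : π a = 0 := by
      change π a ∈ IsLocalRing.maximalIdeal _ at ha
      rwa [IsLocalRing.maximalIdeal_eq_bot, Ideal.mem_bot] at ha
    rw [(map_eq_zero_iff _ hπ).1 this]
    exact zero_mem _
  exact ((PrimeSpectrum.le_iff_specializes η q).1 hle).map y.left.continuous

/-- a tuple with generators generalises to the generic one of its type -/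
theorem exists_generic_specializes (E : Rep f g r X) (hrd : r < d)
    (hI : ∀ i, (f i).comp (g i) = s • LinearMap.id ∧ (g i).comp (f i) = s • LinearMap.id)
    {μ : Fin r → Fin (n + 1)} {L : Type u} [Field L] [Algebra R L] (x : Pt (CommAlgCat.of R L) ⟶ X)
    (hx : Good μ (show W4c1limliniiii.LGPoints R d r n f g L from E.e (CommAlgCat.of R L) x)) :
    ∃ z, IsGeneric E μ z ∧ pt z ⤳ pt x := by
  classical
  obtain ⟨w, hw⟩ := hx
  choose ε hεc hεd using fun i => exists_frame (r := r) (Nat.sub_add_cancel hrd.le)
    ((show W4c1limliniiii.LGPoints R d r n f g L from E.e (CommAlgCat.of R L) x).1 i)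
  let ev : MvPolynomial (Fin r × Fin d) R →ₐ[R] L := MvPolynomial.aeval fun p => co R L d (w p.1) p.2
  have hev : (fun α => iota ev (genA R d r α)) = w := funext fun α => (co R L d).injective (funext fun c => by
    rw [co_iota, genA, LinearEquiv.apply_symm_apply, MvPolynomial.aeval_X])
  have hmem : ∀ i α, genVec f g μ w i α ∈
      ((show W4c1limliniiii.LGPoints R d r n f g L from E.e (CommAlgCat.of R L) x).1 i).toSubmodule := fun i α =>
    (hw i).2 ▸ Submodule.subset_span ⟨α, rfl⟩
  let Δ : MvPolynomial (Fin r × Fin d) R := ∏ i, (minor (ε i) (genVec f g μ (genA R d r) i)).det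
  have hΔ : IsUnit (ev Δ) := by
    rw [map_prod]
    refine IsUnit.prod_univ_iff.2 fun i => ?_
    rw [← det_minor_iota, iota_genVec, hev]
    exact hεd i _ (hmem i) (hw i).1
  have hΔ0 : Δ ≠ 0 := fun h0 => by rw [h0, map_zero] at hΔ; exact not_isUnit_zero hΔ
  let loc : MvPolynomial (Fin r × Fin d) R →ₐ[R] Localization.Away Δ := IsScalarTower.toAlgHom R _ _
  have hdet : ∀ i, IsUnit (minor (ε i) (genVec f g μ (fun α => iota loc (genA R d r α)) i)).det := fun i => by
    rw [← iota_genVec, det_minor_iota]
    have := IsLocalization.Away.algebraMap_isUnit (S := Localization.Away Δ) Δ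
    rw [show algebraMap _ (Localization.Away Δ) Δ = ∏ i, loc (minor (ε i) (genVec f g μ (genA R d r) i)).det from
      map_prod _ _ _] at this
    exact IsUnit.prod_univ_iff.1 this i
  obtain ⟨U, hU⟩ := exists_lgPoint (f := f) (g := g) hdet (fun i α => (genVec_linked hI μ _ i α).1)
    (fun i α => (genVec_linked hI μ _ i α).2)
  obtain ⟨ψ, hψ⟩ := exists_awayLift Δ ev hΔ
  obtain ⟨π, hπ⟩ := exists_awayLift Δ (IsScalarTower.toAlgHom R (MvPolynomial (Fin r × Fin d) R) (GenK R d r))
    (isUnit_iff_ne_zero.2 ((map_ne_zero_iff _ (IsFractionRing.injective _ (GenK R d r))).2 hΔ0))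
  have hπinj : Function.Injective π := by
    rw [injective_iff_map_eq_zero]
    intro b hb
    obtain ⟨m, p, hp⟩ := IsLocalization.Away.surj Δ b
    have h1 := congrArg π hp
    rw [map_mul, hb, zero_mul, show π (algebraMap _ _ p) = algebraMap _ (GenK R d r) p from
      AlgHom.congr_fun hπ p] at h1
    rw [(map_eq_zero_iff _ (IsFractionRing.injective _ (GenK R d r))).1 h1.symm, map_zero] at hp
    exact (IsUnit.mul_left_eq_zero ((IsLocalization.Away.algebraMap_isUnit Δ).pow m)).1 hp
  let y : Pt (CommAlgCat.of R (Localization.Away Δ)) ⟶ X := (E.e (CommAlgCat.of R (Localization.Away Δ))).symm U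
  have hy : E.e (CommAlgCat.of R (Localization.Away Δ)) y = U := Equiv.apply_symm_apply _ U
  have hspanU : ∀ {C : Type u} [CommRing C] [Algebra R C] (χ : Localization.Away Δ →ₐ[R] C) (i : Fin (n + 1)),
      ((mapPt χ U).1 i).toSubmodule =
        Submodule.span C (Set.range (genVec f g μ (fun α => iota χ (iota loc (genA R d r α))) i)) := by
    intro C _ _ χ i
    refine eq_span (ε i) ((hU i).1.map χ) (fun α => ?_) ?_
    · rw [← iota_genVec]
      exact iota_mem_map χ _ ((hU i).2 ▸ Submodule.subset_span ⟨α, rfl⟩)
    · rw [← iota_genVec, det_minor_iota]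
      exact (hdet i).map χ
  refine ⟨ptMap (CommAlgCat.ofHom π) ≫ y, fun i => ?_, ?_⟩
  · rw [E.nat, hy]
    refine (hspanU π i).trans ?_
    rw [show (fun α => iota π (iota loc (genA R d r α))) = fun α =>
      iota (IsScalarTower.toAlgHom R (MvPolynomial (Fin r × Fin d) R) (GenK R d r)) (genA R d r α) from
        funext fun α => by rw [← iota_comp, hπ]]
  · have hxy : ptMap (CommAlgCat.ofHom ψ) ≫ y = x := (E.e _).injective (by
      rw [E.nat, hy]
      refine Subtype.ext (funext fun i => Grassmannian.ext ((hspanU ψ i).trans ?_))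
      rw [show (fun α => iota ψ (iota loc (genA R d r α))) = w by
        rw [← hev]; funext α; rw [← iota_comp, hψ]]
      exact (hw i).2.symm)
    have := pt_specializes y hπinj ψ
    rwa [hxy] at this

theorem exists_good_generization (E : Rep f g r X) (hrd : r < d)
    (hI : ∀ i, (f i).comp (g i) = s • LinearMap.id ∧ (g i).comp (f i) = s • LinearMap.id)
    (hII : ∀ (P : Ideal R) [P.IsPrime], ∀ i,
      d ≤ Module.finrank P.ResidueField (LinearMap.range ((f i).baseChange P.ResidueField)) +
        Module.finrank P.ResidueField (LinearMap.range ((g i).baseChange P.ResidueField)))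
    (hIII : ∀ (P : Ideal R) [P.IsPrime], ∀ i j : Fin n, i.val + 1 = j.val →
      LinearMap.range ((f i).baseChange P.ResidueField) ⊓ LinearMap.ker ((f j).baseChange P.ResidueField) = ⊥ ∧
        LinearMap.range ((g j).baseChange P.ResidueField) ⊓ LinearMap.ker ((g i).baseChange P.ResidueField) = ⊥)
    (x : X.left) : ∃ (μ : Fin r → Fin (n + 1)) (z : Pt (CommAlgCat.of R (GenK R d r)) ⟶ X),
      IsGeneric E μ z ∧ pt z ⤳ x := by
  have hx : pt (resPt x) = x := Scheme.fromSpecResidueField_apply _ _
  by_cases hs : algebraMap R (X.left.residueField x) s = 0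
  · have hS := split_of_fibres hI hII hIII _ hs
    obtain ⟨H⟩ := hS.exists_halves hrd (val E x)
    obtain ⟨B, _, _, _, W, φ, hφ, hgood⟩ := (specializes_hi_lo hrd hI hs hS H).1
    let y : Pt (CommAlgCat.of R B) ⟶ X := (E.e (CommAlgCat.of R B)).symm W
    have hy : E.e (CommAlgCat.of R B) y = W := Equiv.apply_symm_apply _ W
    have hxy : ptMap (CommAlgCat.ofHom φ) ≫ y = resPt x :=
      (E.e _).injective (by rw [E.nat, hy]; exact hφ)
    have h1 := pt_specializes y (π := IsScalarTower.toAlgHom R B (FractionRing B))
      (IsFractionRing.injective B (FractionRing B)) φ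
    rw [hxy, hx] at h1
    obtain ⟨z, hz, hz'⟩ := exists_generic_specializes E hrd hI (μ := H.hi)
      (ptMap (CommAlgCat.ofHom (IsScalarTower.toAlgHom R B (FractionRing B))) ≫ y) (by
        have he : E.e _ (ptMap (CommAlgCat.ofHom (IsScalarTower.toAlgHom R B (FractionRing B))) ≫ y) =
            mapPt (IsScalarTower.toAlgHom R B (FractionRing B)) W := by rw [E.nat, hy]; rfl
        exact he ▸ hgood)
    exact ⟨_, z, hz, hz'.trans h1⟩
  · obtain ⟨z, hz, hz'⟩ := exists_generic_specializes E hrd hI (resPt x)
      (good_of_ne_zero_aux hrd hI hs (val E x))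
    exact ⟨_, z, hz, hx ▸ hz'⟩

theorem hom_pt (y : Pt (CommAlgCat.of R (GenK R d r)) ⟶ X) :
    X.hom (pt y) = (⊥ : PrimeSpectrum R) := by
  show (y.left ≫ X.hom) (IsLocalRing.closedPoint _) = _
  rw [Over.w y]
  refine PrimeSpectrum.ext ?_
  show (IsLocalRing.maximalIdeal (GenK R d r)).comap (algebraMap R (GenK R d r)) = ⊥
  rw [IsLocalRing.maximalIdeal_eq_bot, ← RingHom.ker_eq_comap_bot, ← RingHom.injective_iff_ker_eq_bot,
    IsScalarTower.algebraMap_eq R (MvPolynomial (Fin r × Fin d) R) (GenK R d r)]
  exact (IsFractionRing.injective (MvPolynomial (Fin r × Fin d) R) (GenK R d r)).comp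
    (MvPolynomial.C_injective (Fin r × Fin d) R)

omit [IsDomain R] in
theorem isClosedMap_hom (E : Rep f g r X) : IsClosedMap X.hom.base := by
  obtain ⟨Y, eY, hY, hp⟩ := exists_linked (R := R) d r n f g
  obtain ⟨c, -⟩ := exists_iso_of_pts (fun A => (eY A).trans (E.e A).symm) fun A B φ y => by
    apply (E.e B).injective
    show E.e B ((E.e B).symm (eY B (ptMap φ ≫ y))) = E.e B (ptMap φ ≫ (E.e A).symm (eY A y))
    rw [Equiv.apply_symm_apply, E.nat, Equiv.apply_symm_apply]
    exact Subtype.ext (funext fun i => hY A B φ y (ptMap φ ≫ y) rfl i)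
  have := hp
  have : IsProper X.hom := by
    rw [← Over.w c.inv]
    infer_instance
  exact X.hom.isClosedMap

omit [IsDomain R] in
theorem exists_lgPoint_field (hrd : r < d)
    (hI : ∀ i, (f i).comp (g i) = s • LinearMap.id ∧ (g i).comp (f i) = s • LinearMap.id)
    {L : Type u} [Field L] [Algebra R L] (hu : algebraMap R L s ≠ 0) :
    Nonempty (W4c1limliniiii.LGPoints R d r n f g L) := by
  classical
  let w : Fin r → MA R L d := fun α => (co R L d).symm (Pi.single (Fin.castLE hrd.le α) 1)
  have hw : LinearIndependent L w := by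
    have h0 : w = (co R L d).symm.toLinearMap ∘ (fun α => Pi.basisFun L (Fin d) (Fin.castLE hrd.le α)) :=
      funext fun α => by simp [w]
    rw [h0]
    exact ((Pi.basisFun L (Fin d)).linearIndependent.comp _ (Fin.castLE_injective hrd.le)).map'
      _ (LinearEquiv.ker _)
  have hv : ∀ i, LinearIndependent L (genVec f g (fun _ => (0 : Fin (n + 1))) w i) := fun i =>
    hw.map' _ (LinearMap.ker_eq_bot.2 (pathA_injective hI hu i))
  have hframe : ∀ i, ∃ ε : Fin (d - r) ⊕ Fin r ≃ Fin d,
      IsUnit (minor ε (genVec f g (fun _ => (0 : Fin (n + 1))) w i)).det := fun i => by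
    let S : Submodule L (MA R L d) := Submodule.span L (Set.range (genVec f g (fun _ => (0 : Fin (n + 1))) w i))
    have hfin : Module.finrank L (MA R L d ⧸ S) = d - r := by
      have h1 := S.finrank_quotient_add_finrank
      rw [finrank_span_eq_card (hv i), Fintype.card_fin, (co R L d).finrank_eq, Module.finrank_fin_fun] at h1
      omega
    let N : Grassmannian L (MA R L d) (d - r) :=
      { S with
        finite_quotient := inferInstanceAs (Module.Finite L (MA R L d ⧸ S))
        projective_quotient := inferInstanceAs (Module.Projective L (MA R L d ⧸ S))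
        rankAtStalk_eq := fun p => (congrFun (Module.rankAtStalk_eq_finrank_of_free (R := L) (M := MA R L d ⧸ S)) p).trans hfin }
    obtain ⟨ε, -, hε⟩ := exists_frame (r := r) (Nat.sub_add_cancel hrd.le) N
    exact ⟨ε, hε _ (fun α => Submodule.subset_span ⟨α, rfl⟩) (hv i)⟩
  choose ε hε using hframe
  obtain ⟨V, -⟩ := exists_lgPoint hε (fun i α => (genVec_linked hI _ w i α).1)
    (fun i α => (genVec_linked hI _ w i α).2)
  exact ⟨V⟩

end Groth.Misc6.LinkedGrass
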