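import Mathlib
import Groth.Agent.Misc6.LinkedGrass.Scheme
import Groth.Agent.GrassRep.Linked
import Groth.Agent.Variety2.DimScheme

/-!
# Components of a linked Grassmannian
-/

set_option autoImplicit false

universe u

open CategoryTheory AlgebraicGeometry TensorProduct Module
open Groth.GrassRep

noncomputable section

namespace Groth.Misc6.LinkedGrass

theorem isPreirreducible_iUnion {T : Type*} [TopologicalSpace T] {ι : Sort*} (O : ι → Set T)
    (hopen : ∀ a, IsOpen (O a)) (hirr : ∀ a, IsPreirreducible (O a))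
    (hmeet : ∀ a b, (O a).Nonempty → (O b).Nonempty → (O a ∩ O b).Nonempty) : IsPreirreducible (⋃ a, O a) := by
  rintro u v hu hv ⟨x, hx, hxu⟩ ⟨y, hy, hyv⟩
  obtain ⟨a, ha⟩ := Set.mem_iUnion.1 hx
  obtain ⟨b, hb⟩ := Set.mem_iUnion.1 hy
  obtain ⟨w, hwa, hwb⟩ := hmeet a b ⟨x, ha⟩ ⟨y, hb⟩
  obtain ⟨z, hza, hzu, hzb⟩ := hirr a u (O b) hu (hopen b) ⟨x, ha, hxu⟩ ⟨w, hwa, hwb⟩
  obtain ⟨t, htb, ⟨hta, htu⟩, htv⟩ :=
    hirr b (O a ∩ u) v ((hopen a).inter hu) hv ⟨z, hzb, hza, hzu⟩ ⟨y, hb, hyv⟩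
  exact ⟨t, Set.mem_iUnion.2 ⟨a, hta⟩, htu, htv⟩

variable {k : Type u} [Field k] {d r n : ℕ} {f g : Fin n → ((Fin d → k) →ₗ[k] (Fin d → k))} {s : k}
variable {X : Over (Spec (CommRingCat.of k))}

theorem exists_rep
    (e : ∀ A : CommAlgCat.{u} k, (Pt A ⟶ X) ≃ W4c1limliniiii.LGPoints k d r n f g A)
    (he : ∀ (A B : CommAlgCat.{u} k) (φ : A ⟶ B) (x : Pt A ⟶ X) (x' : Pt B ⟶ X),
      x'.left = Spec.map (CommRingCat.ofHom φ.hom.toRingHom) ≫ x.left →
        ∀ i, (e B x').1 i = Grassmannian.map φ.hom ((e A x).1 i)) :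
    ∃ R : Rep f g r X, ∀ A, R.e A = e A :=
  ⟨⟨e, fun A B φ x => Subtype.ext (funext fun i => he A B φ x (ptMap φ ≫ x) rfl i)⟩, fun _ => rfl⟩

theorem isPreirreducible_chartSet (R : Rep f g r X) (h : Hyp f g s r) (δ : Datum d r n) :
    IsPreirreducible (chartSet R δ) := by
  obtain ⟨c, -, hr⟩ := exists_chartHom R h δ
  rw [← hr, ← Set.image_univ]
  refine IsPreirreducible.image ?_ _ c.left.continuous.continuousOn
  by_cases hne : chartDet f g δ = 0
  · haveI := subsingleton_chartRing hne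
    exact Set.Subsingleton.isPreirreducible (Set.subsingleton_univ (α := PrimeSpectrum (ChartRing f g δ)))
  · haveI := isDomain_chartRing hne
    exact PreirreducibleSpace.isPreirreducible_univ (X := PrimeSpectrum (ChartRing f g δ))

theorem isPreirreducible_stratum (R : Rep f g r X) (h : Hyp f g s r) {μ : Fin r → Fin (n + 1)} (hμ : Adm s μ) :
    IsPreirreducible (stratum R μ) := by
  rw [show stratum R μ = ⋃ δ : {δ : Datum d r n // δ.μ = μ}, chartSet R δ.1 by
    rw [stratum_eq R h hμ, Set.iUnion_subtype]]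
  refine isPreirreducible_iUnion _ (fun δ => isOpen_chartSet R _) (fun δ => isPreirreducible_chartSet R h _)
    fun δ δ' hx hx' => ?_
  obtain ⟨x, hx⟩ := hx
  obtain ⟨x', hx'⟩ := hx'
  obtain ⟨W, hW, hW'⟩ := exists_inGood_inGood h (δ.2.trans δ'.2.symm) hx hx'
  let y : Pt (CommAlgCat.of k (GenField k d r)) ⟶ X := (R.e (CommAlgCat.of k (GenField k d r))).symm W
  have hy : R.e (CommAlgCat.of k (GenField k d r)) y = W := Equiv.apply_symm_apply _ W
  refine ⟨pt y, (pt_mem_chartSet_iff R _ y).2 ?_, (pt_mem_chartSet_iff R _ y).2 ?_⟩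
  · exact hy.symm ▸ hW
  · exact hy.symm ▸ hW'

theorem mem_closure_stratum (R : Rep f g r X) (h : Hyp f g s r) {μ : Fin r → Fin (n + 1)} (hμ : Adm s μ)
    {x : X.left} (hx : Specializes μ (val R x)) : x ∈ closure (stratum R μ) := by
  obtain ⟨B, _, _, _, W, φ, hφ, hgood⟩ := hx
  let y : Pt (CommAlgCat.of k B) ⟶ X := (R.e (CommAlgCat.of k B)).symm W
  have hy : R.e (CommAlgCat.of k B) y = W := Equiv.apply_symm_apply _ W
  have hxy : ptMap (CommAlgCat.ofHom φ) ≫ y = resPt x :=
    (R.e _).injective (by rw [R.nat, hy]; exact hφ)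
  let z : Pt (CommAlgCat.of k (FractionRing B)) ⟶ X :=
    ptMap (CommAlgCat.ofHom (IsScalarTower.toAlgHom k B (FractionRing B))) ≫ y
  have hz : pt z ∈ stratum R μ := (pt_mem_stratum_iff R h hμ z).2 (by
    show Good μ (R.e _ z)
    rw [R.nat, hy]
    exact hgood)
  let q : PrimeSpectrum B := PrimeSpectrum.comap φ.toRingHom (IsLocalRing.closedPoint _)
  let η : PrimeSpectrum B := PrimeSpectrum.comap (algebraMap B (FractionRing B)) (IsLocalRing.closedPoint _)
  have hqx : y.left q = x := by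
    have h1 : (ptMap (CommAlgCat.ofHom φ) ≫ y).left (IsLocalRing.closedPoint (X.left.residueField x)) =
        (resPt x).left (IsLocalRing.closedPoint (X.left.residueField x)) := by rw [hxy]
    refine Eq.trans ?_ (h1.trans (Scheme.fromSpecResidueField_apply _ _))
    rfl
  have hle : η ≤ q := fun a ha => by
    have : algebraMap B (FractionRing B) a = 0 := by
      change algebraMap B (FractionRing B) a ∈ IsLocalRing.maximalIdeal _ at ha
      rwa [IsLocalRing.maximalIdeal_eq_bot, Ideal.mem_bot] at ha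
    rw [(map_eq_zero_iff _ (IsFractionRing.injective B (FractionRing B))).1 this]
    exact zero_mem _
  have hsp : y.left η ⤳ y.left q := ((PrimeSpectrum.le_iff_specializes η q).1 hle).map y.left.continuous
  rw [hqx] at hsp
  exact closure_mono (Set.singleton_subset_iff.2 hz) (specializes_iff_mem_closure.1 hsp)

/-- exactness at a field-valued point is membership of a stratum -/
theorem isExact_iff_mem (R : Rep f g r X) (h : Hyp f g s r) {L : Type u} [Field L] [Algebra k L]
    (y : Pt (CommAlgCat.of k L) ⟶ X) :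
    W4c1limliniiii.IsExact k d r n f g (CommAlgCat.of k L) (R.e (CommAlgCat.of k L) y).1 ↔
      ∃ μ : Fin r → Fin (n + 1), Adm s μ ∧ pt y ∈ stratum R μ := by
  constructor
  · intro hex
    obtain ⟨μ, hμ, hgood⟩ := exists_good_of_isExact h
      (V := (show W4c1limliniiii.LGPoints k d r n f g L from R.e (CommAlgCat.of k L) y)) hex
    exact ⟨μ, hμ, (pt_mem_stratum_iff R h hμ y).2 hgood⟩
  · rintro ⟨μ, hμ, hm⟩
    exact ((pt_mem_stratum_iff R h hμ y).1 hm).isExact h

theorem exists_two_closure (R : Rep f g r X) (h : Hyp f g s r) {x : X.left}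
    (hx : ∀ μ : Fin r → Fin (n + 1), Adm s μ → x ∉ stratum R μ) :
    ∃ μ μ' : Fin r → Fin (n + 1), μ ≠ μ' ∧ Adm s μ ∧ Adm s μ' ∧
      x ∈ closure (stratum R μ) ∧ x ∈ closure (stratum R μ') := by
  have hne : ¬ W4c1limliniiii.IsExact k d r n f g (X.left.residueField x) (val R x).1 := fun hex => by
    obtain ⟨μ, hμ, hgood⟩ := exists_good_of_isExact h hex
    exact hx μ hμ hgood
  obtain ⟨μ, μ', hne', hμ, hμ', h1, h2⟩ := exists_two_specializes h hne
  exact ⟨μ, μ', hne', hμ, hμ', mem_closure_stratum R h hμ h1, mem_closure_stratum R h hμ' h2⟩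

theorem exists_mem_closure (R : Rep f g r X) (h : Hyp f g s r) (x : X.left) :
    ∃ μ : Fin r → Fin (n + 1), Adm s μ ∧ x ∈ closure (stratum R μ) := by
  by_cases hx : ∃ μ : Fin r → Fin (n + 1), Adm s μ ∧ x ∈ stratum R μ
  · obtain ⟨μ, hμ, hm⟩ := hx
    exact ⟨μ, hμ, subset_closure hm⟩
  · push Not at hx
    obtain ⟨μ, -, -, hμ, -, hm, -⟩ := exists_two_closure R h hx
    exact ⟨μ, hμ, hm⟩

theorem stratum_unique_closure (R : Rep f g r X) (h : Hyp f g s r) {μ ν : Fin r → Fin (n + 1)} (hμ : Adm s μ)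
    (hν : Adm s ν) {x : X.left} (hx : x ∈ stratum R μ) (hxν : x ∈ closure (stratum R ν)) : μ = ν := by
  obtain ⟨y, hy, hy'⟩ := mem_closure_iff.1 hxν _ (isOpen_stratum R h hμ) hx
  exact disjoint_stratum R h hμ hν hy hy'

/-- the components are the closures of the nonempty strata -/
theorem closure_mem_irreducibleComponents (R : Rep f g r X) (h : Hyp f g s r) {μ : Fin r → Fin (n + 1)}
    (hμ : Adm s μ) (hne : (stratum R μ).Nonempty) : closure (stratum R μ) ∈ irreducibleComponents X.left := by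
  refine ⟨IsIrreducible.closure ⟨hne, isPreirreducible_stratum R h hμ⟩, fun T hT hle => ?_⟩
  obtain ⟨x, hx⟩ := hne
  intro t ht
  refine closure_mono ?_ ((subset_closure_inter_of_isPreirreducible_of_isOpen hT.2 (isOpen_stratum R h hμ) ⟨x, hle (subset_closure hx), hx⟩) ht)
  exact Set.inter_subset_right

theorem exists_eq_closure (R : Rep f g r X) (h : Hyp f g s r) {Z : Set X.left}
    (hZ : Z ∈ irreducibleComponents X.left) :
    ∃ μ : Fin r → Fin (n + 1), Adm s μ ∧ (stratum R μ).Nonempty ∧ Z = closure (stratum R μ) := by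
  classical
  have hcov : Z ⊆ ⋃₀ ↑((Finset.univ.filter fun μ : Fin r → Fin (n + 1) => Adm s μ).image
      fun μ => closure (stratum R μ)) := fun x _ => by
    obtain ⟨μ, hμ, hm⟩ := exists_mem_closure R h x
    exact ⟨_, Finset.mem_image.2 ⟨μ, by simpa using hμ, rfl⟩, hm⟩
  obtain ⟨_, hC, hZC⟩ := isIrreducible_iff_sUnion_isClosed.1 hZ.1 _
    (fun C hC => by
      obtain ⟨μ, -, rfl⟩ := Finset.mem_image.1 hC
      exact isClosed_closure) hcov
  obtain ⟨μ, hμ, rfl⟩ := Finset.mem_image.1 hC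
  rw [Finset.mem_filter] at hμ
  have hne : (stratum R μ).Nonempty := closure_nonempty_iff.1 (hZ.1.nonempty.mono hZC)
  exact ⟨μ, hμ.2, hne,
    le_antisymm hZC (hZ.2 (IsIrreducible.closure ⟨hne, isPreirreducible_stratum R h hμ.2⟩) hZC)⟩

theorem locallyOfFiniteType_hom (R : Rep f g r X) : LocallyOfFiniteType X.hom := by
  obtain ⟨Y, eY, hY, hp⟩ := exists_linked (R := k) d r n f g
  obtain ⟨RY, -⟩ := exists_rep eY hY
  obtain ⟨c, -⟩ := exists_iso_of_pts (fun A => (RY.e A).trans (R.e A).symm) fun A B φ y => by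
    apply (R.e B).injective
    show R.e B ((R.e B).symm (RY.e B (ptMap φ ≫ y))) = R.e B (ptMap φ ≫ (R.e A).symm (RY.e A y))
    rw [Equiv.apply_symm_apply, R.nat, RY.nat, Equiv.apply_symm_apply]
  have := hp
  rw [← Over.w c.inv]
  infer_instance

theorem dim_closure_stratum (R : Rep f g r X) (h : Hyp f g s r) {μ : Fin r → Fin (n + 1)} (hμ : Adm s μ)
    (hne : (stratum R μ).Nonempty) :
    topologicalKrullDim ↥(closure (stratum R μ)) = (r * (d - r) : ℕ) := by
  have := locallyOfFiniteType_hom R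
  obtain ⟨x, hx⟩ := hne
  obtain ⟨δ, rfl, hδ⟩ := exists_inGood h hμ hx
  obtain ⟨c, hc, hr⟩ := exists_chartHom R h δ
  obtain ⟨q, hq⟩ : x ∈ Set.range c.left := hr ▸ hδ
  have hdet : chartDet f g δ ≠ 0 := fun h0 => by
    haveI := subsingleton_chartRing h0
    exact (q : PrimeSpectrum (ChartRing f g δ)).isPrime.ne_top (Subsingleton.elim _ _)
  haveI := isDomain_chartRing hdet
  haveI : IrreducibleSpace ((Pt (CommAlgCat.of k (ChartRing f g δ))).left) :=
    inferInstanceAs (IrreducibleSpace (PrimeSpectrum (ChartRing f g δ)))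
  let η := genericPoint (Pt (CommAlgCat.of k (ChartRing f g δ))).left
  have hcl : closure (stratum R δ.μ) = closure {c.left η} := by
    refine le_antisymm ?_ (closure_mono (Set.singleton_subset_iff.2 (chartSet_subset R δ (hr ▸ ⟨η, rfl⟩))))
    refine closure_minimal ?_ isClosed_closure
    intro t ht
    have h1 := subset_closure_inter_of_isPreirreducible_of_isOpen (isPreirreducible_stratum R h hμ) (isOpen_chartSet R δ) ⟨x, hx, hδ⟩ ht
    refine closure_minimal ?_ isClosed_closure h1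
    rintro _ ⟨-, hz⟩
    obtain ⟨p, rfl⟩ := hr.ge hz
    exact specializes_iff_mem_closure.1 ((genericPoint_specializes p).map c.left.continuous)
  haveI : LocallyOfFiniteType (c.left ≫ X.hom) := by
    haveI := hc
    infer_instance
  rw [hcl, Variety2.Dim.dim_closure_singleton,
    Variety2.Dim.height_eq_of_isPreimmersion (c.left ≫ X.hom) X.hom c.left rfl η,
    ← Variety2.Dim.dim_eq_height_genericPoint]
  show topologicalKrullDim (PrimeSpectrum (ChartRing f g δ)) = _
  rw [PrimeSpectrum.topologicalKrullDim_eq_ringKrullDim, ringKrullDim_chartRing hdet]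

theorem formallySmooth_stalkMap (R : Rep f g r X) (h : Hyp f g s r) {μ : Fin r → Fin (n + 1)} (hμ : Adm s μ)
    {x : X.left} (hx : x ∈ stratum R μ) [LocallyOfFinitePresentation X.hom] :
    (X.hom.stalkMap x).hom.FormallySmooth := by
  obtain ⟨δ, rfl, hδ⟩ := exists_inGood h hμ hx
  obtain ⟨c, hc, hr⟩ := exists_chartHom R h δ
  obtain ⟨q, rfl⟩ : x ∈ Set.range c.left := hr ▸ hδ
  have hs : Smooth (c.left ≫ X.hom) := by
    rw [Over.w c]
    haveI : Algebra.Smooth (MvPolynomial (Fin r × Fin (d - r)) k) (ChartRing f g δ) := inferInstance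
    haveI : Algebra.Smooth k (MvPolynomial (Fin r × Fin (d - r)) k) := { }
    haveI : Algebra.Smooth k (ChartRing f g δ) :=
      Algebra.Smooth.comp k (MvPolynomial (Fin r × Fin (d - r)) k) (ChartRing f g δ)
    refine (HasRingHomProperty.Spec_iff (P := @Smooth)).2 ?_
    exact RingHom.smooth_algebraMap.2 inferInstance
  haveI := hc
  have hq : q ∈ (c.left ≫ X.hom).smoothLocus := by rw [Scheme.Hom.smoothLocus_eq_top]; trivial
  rw [← Scheme.Hom.preimage_smoothLocus_eq] at hq
  exact hq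

end Groth.Misc6.LinkedGrass
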